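import Mathlib
import Groth.Agent.FlatDescent.Fibre
import Groth.Agent.FlatDescent.Global

/-!
# Maps into flat modules which are injective on the fibre: finitely presented case over polynomial rings

`noeth_step`: Noetherian base.  `injective_fibre_poly`: arbitrary base, by descent to a finitely generated
`ℤ`-subalgebra: local injectivity and flatness of the cokernel.
-/

universe u

open TensorProduct MvPolynomial

namespace Groth.FlatDescent.LocalFP

theorem flatOn_left {A P X Y Z : Type u} [CommRing A] [CommRing P] [Algebra A P] [AddCommGroup X] [Module A X]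
    [Module P X] [IsScalarTower A P X] [AddCommGroup Y] [Module A Y] [Module P Y] [IsScalarTower A P Y]
    [AddCommGroup Z] [Module A Z] [Module P Z] [IsScalarTower A P Z] {S : Submonoid P} (f : X →ₗ[P] Y) (g : Y →ₗ[P] Z)
    (hf : Function.Injective f) (hfg : Function.Exact f g) (hg : Function.Surjective g) (hY : FlatOn A S Y)
    (hZ : FlatOn A S Z) : FlatOn A S X := by
  intro I x hx
  obtain ⟨s, hs, hsx⟩ := hY I (AlgebraTensorModule.rTensor A I f x) (by rw [mulI_natural, hx, map_zero])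
  rw [← map_smul] at hsx
  obtain ⟨t, ht, htx⟩ := exists_smul_eq_zero_of_exact (A := A) f g hf hfg hg hZ I _ hsx
  exact ⟨t * s, S.mul_mem ht hs, by rw [mul_smul, htx]⟩

/-- The Noetherian case. -/
theorem noeth_step {A : Type u} [CommRing A] [IsNoetherianRing A] {σ κ κ' : Type} [Finite σ] [Finite κ] [Finite κ']
    (q : Ideal (MvPolynomial σ A)) [q.IsPrime] (NN : Submodule (MvPolynomial σ A) (κ → MvPolynomial σ A))
    (NM : Submodule (MvPolynomial σ A) (κ' → MvPolynomial σ A))
    (U : (κ' → MvPolynomial σ A) →ₗ[MvPolynomial σ A] (κ → MvPolynomial σ A)) (hU : NM ≤ NN.comap U)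
    (hflat : FlatCA.FlatAt A q ((κ → MvPolynomial σ A) ⧸ NN))
    (hinj : ∀ y, U y ∈ NN ⊔ (q.comap (algebraMap A (MvPolynomial σ A))).map (algebraMap A (MvPolynomial σ A)) •
        (⊤ : Submodule (MvPolynomial σ A) (κ → MvPolynomial σ A)) →
      ∃ s : MvPolynomial σ A, s ∉ q ∧ s • y ∈ NM ⊔ (q.comap (algebraMap A (MvPolynomial σ A))).map
        (algebraMap A (MvPolynomial σ A)) • (⊤ : Submodule (MvPolynomial σ A) (κ' → MvPolynomial σ A))) :
    (∀ y, U y ∈ NN → ∃ s : MvPolynomial σ A, s ∉ q ∧ s • y ∈ NM) ∧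
      FlatCA.FlatAt A q ((κ → MvPolynomial σ A) ⧸ (NN ⊔ LinearMap.range U)) := by
  let P := MvPolynomial σ A
  set I : Ideal P := (q.comap (algebraMap A P)).map (algebraMap A P) with hI
  have hIq : I ≤ q := Ideal.map_comap_le
  have hcoker : FlatCA.FlatAt A q ((κ → P) ⧸ (NN ⊔ LinearMap.range U)) := by
    refine flatAt_of_torVan _ q fun x hxN hx => ?_
    obtain ⟨n, hn, w, ⟨y, rfl⟩, rfl⟩ := Submodule.mem_sup.1 hxN
    obtain ⟨s, hs, hsy⟩ := hinj y (by
      rw [show U y = -n + (n + U y) by abel]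
      exact Submodule.add_mem_sup (NN.neg_mem hn) hx)
    obtain ⟨m, hm, z, hz, hmz⟩ := Submodule.mem_sup.1 hsy
    have hUz : U z ∈ I • LinearMap.range U := by
      rw [LinearMap.range_eq_map, ← Submodule.map_smul'']
      exact Submodule.mem_map_of_mem hz
    have hsplit : s • (n + U y) = (s • n + U m) + U z := by
      rw [smul_add, ← map_smul, ← hmz, map_add, add_assoc]
    obtain ⟨s', hs', hs'x⟩ := torVan_of_flatAt NN q hflat _ (s • n + U m)
      (NN.add_mem (NN.smul_mem _ hn) (hU hm)) (by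
      rw [show s • n + U m = s • (n + U y) - U z by rw [hsplit]; abel]
      exact Submodule.sub_mem _ (Submodule.smul_mem _ _ hx) ((Submodule.smul_mono (le_refl I) le_top) hUz))
    refine ⟨s' * s, fun h => ((‹q.IsPrime›).mem_or_mem h).elim hs' hs, ?_⟩
    rw [mul_smul, hsplit, smul_add]
    exact add_mem (Submodule.smul_mono (le_refl I) le_sup_left hs'x)
      (Submodule.smul_mem _ _ (Submodule.smul_mono (le_refl I) le_sup_right hUz))
  refine ⟨fun y₀ hy₀ => ?_, hcoker⟩
  let K := NN.comap U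
  let f : ((κ' → P) ⧸ K) →ₗ[P] (κ → P) ⧸ NN := Submodule.mapQ K NN U le_rfl
  let g : ((κ → P) ⧸ NN) →ₗ[P] (κ → P) ⧸ (NN ⊔ LinearMap.range U) := Submodule.mapQ _ _ LinearMap.id le_sup_left
  have hf : Function.Injective f := by
    refine (injective_iff_map_eq_zero _).2 fun v hv => ?_
    obtain ⟨v, rfl⟩ := Submodule.Quotient.mk_surjective _ v
    exact (Submodule.Quotient.mk_eq_zero _).2 ((Submodule.Quotient.mk_eq_zero NN).1 hv)
  have hfg : Function.Exact f g := by
    intro v
    constructor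
    · intro hv
      obtain ⟨v, rfl⟩ := Submodule.Quotient.mk_surjective _ v
      obtain ⟨n, hn, w, ⟨y, rfl⟩, rfl⟩ := Submodule.mem_sup.1 ((Submodule.Quotient.mk_eq_zero _).1 hv)
      exact ⟨Submodule.Quotient.mk y, (Submodule.Quotient.eq NN).2 (by simpa using NN.neg_mem hn)⟩
    · rintro ⟨w, rfl⟩
      obtain ⟨w, rfl⟩ := Submodule.Quotient.mk_surjective _ w
      exact (Submodule.Quotient.mk_eq_zero _).2 (Submodule.mem_sup_right ⟨w, rfl⟩)
  have hg : Function.Surjective g := fun v => by
    obtain ⟨v, rfl⟩ := Submodule.Quotient.mk_surjective _ v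
    exact ⟨Submodule.Quotient.mk v, rfl⟩
  have hK : FlatCA.FlatAt A q ((κ' → P) ⧸ K) :=
    (flatOn_primeCompl_iff q).1 (flatOn_left f g hf hfg hg ((flatOn_primeCompl_iff q).2 hflat)
      ((flatOn_primeCompl_iff q).2 hcoker))
  -- Nakayama
  let V := K ⧸ NM.comap K.subtype
  haveI : IsNoetherian P (κ' → P) := inferInstance
  haveI : Module.Finite P K := Module.Finite.iff_fg.2 (IsNoetherian.noetherian K)
  let Pq := Localization.AtPrime q
  let Vq := LocalizedModule q.primeCompl V
  haveI : Module.Finite Pq Vq := inferInstance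
  have htop : (⊤ : Submodule Pq Vq) ≤ IsLocalRing.maximalIdeal Pq • ⊤ := by
    intro v _
    induction v using LocalizedModule.induction_on with
    | _ k c =>
      obtain ⟨⟨y, hy⟩, rfl⟩ := Submodule.Quotient.mk_surjective _ k
      obtain ⟨s, hs, hsy⟩ := hinj y (Submodule.mem_sup_left hy)
      obtain ⟨m, hm, z, hz, hmz⟩ := Submodule.mem_sup.1 hsy
      have hzK : z ∈ K := by
        rw [show z = s • y - m by rw [← hmz]; abel]
        exact K.sub_mem (K.smul_mem _ hy) (hU hm)
      obtain ⟨s', hs', hsz⟩ := torVan_of_flatAt K q hK _ z hzK hz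
      rw [← map_subtype_smul_top] at hsz
      obtain ⟨w, hw, hwz⟩ := hsz
      have h1 : (s' * s) • (Submodule.Quotient.mk ⟨y, hy⟩ : V) = Submodule.Quotient.mk w := by
        rw [← Submodule.Quotient.mk_smul, Submodule.Quotient.eq, Submodule.mem_comap]
        show (s' * s) • y - (w : κ' → P) ∈ NM
        rw [show (w : κ' → P) = s' • z from hwz, mul_smul, ← hmz, smul_add, add_sub_cancel_right]
        exact NM.smul_mem _ hm
      let d : q.primeCompl := ⟨s' * s, fun h => ((‹q.IsPrime›).mem_or_mem h).elim hs' hs⟩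
      rw [show LocalizedModule.mk (Submodule.Quotient.mk ⟨y, hy⟩ : V) c =
        LocalizedModule.mk (Submodule.Quotient.mk w) (d * c) by
        rw [← h1]; exact LocalizedModule.mk_cancel_common_left d c _ |>.symm]
      clear h1 hwz
      refine Submodule.smul_induction_on hw (fun r hr x _ => ?_) (fun a b ha hb => ?_)
      ·
        rw [Submodule.Quotient.mk_smul, ← LocalizedModule.smul'_mk, ← algebraMap_smul Pq r]
        exact Submodule.smul_mem_smul ((IsLocalization.AtPrime.to_map_mem_maximal_iff Pq q r).2 (hIq hr)) trivial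
      ·
        rw [Submodule.Quotient.mk_add, show LocalizedModule.mk ((Submodule.Quotient.mk a : V) + Submodule.Quotient.mk b)
          (d * c) = LocalizedModule.mk (Submodule.Quotient.mk a) (d * c) +
            LocalizedModule.mk (Submodule.Quotient.mk b) (d * c) by
          rw [LocalizedModule.mk_add_mk, ← smul_add, LocalizedModule.mk_cancel_common_left]]
        exact add_mem ha hb
  have hbot := Submodule.eq_bot_of_le_smul_of_le_jacobson_bot _ _ Module.Finite.fg_top htop
    (IsLocalRing.jacobson_eq_maximalIdeal _ bot_ne_top).ge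
  have h0 : LocalizedModule.mkLinearMap q.primeCompl V (Submodule.Quotient.mk ⟨y₀, hy₀⟩) = 0 := by
    have : LocalizedModule.mkLinearMap q.primeCompl V (Submodule.Quotient.mk ⟨y₀, hy₀⟩) ∈ (⊤ : Submodule Pq Vq) :=
      trivial
    rwa [hbot, Submodule.mem_bot] at this
  obtain ⟨t, ht⟩ := (IsLocalizedModule.eq_zero_iff q.primeCompl _).1 h0
  have h2 : (t : P) • (⟨y₀, hy₀⟩ : K) ∈ NM.comap K.subtype :=
    (Submodule.Quotient.mk_eq_zero _).1 ((Submodule.Quotient.mk_smul _ (t : P) _).trans ht)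
  exact ⟨t, t.2, h2⟩

/-- Membership descends along flat extensions of the coefficients, outside a prime. -/
theorem exists_descend_mem {k L : Type u} [CommRing k] [CommRing L] (φ : k →+* L) (hφ : φ.Flat) {σ κ : Type} [Finite σ]
    [Finite κ] (N : Submodule (MvPolynomial σ k) (κ → MvPolynomial σ k)) (y : κ → MvPolynomial σ k)
    (Q : Ideal (MvPolynomial σ L)) [Q.IsPrime] (t : MvPolynomial σ L) (ht : t ∉ Q)
    (h : t • mapF φ y ∈ baseN φ N) : ∃ f : MvPolynomial σ k, f ∉ Q.comap (map φ) ∧ f • y ∈ N := by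
  letI := φ.toAlgebra
  haveI : Module.Flat k L := hφ
  obtain ⟨Θ, hΘ, hΘ0⟩ := exists_back (R := L) N
  let μ : MvPolynomial σ k →ₗ[k] (κ → MvPolynomial σ k) ⧸ N :=
    ((N.mkQ).comp (LinearMap.toSpanSingleton (MvPolynomial σ k) _ y)).restrictScalars k
  let e : L ⊗[k] MvPolynomial σ k →ₗ[L] MvPolynomial σ L :=
    LinearMap.liftBaseChange L (MvPolynomial.mapAlgHom (Algebra.ofId k L)).toLinearMap
  have he : ∀ r f, e (r ⊗ₜ f) = r • map φ f := fun r f => LinearMap.liftBaseChange_tmul _ _ _ _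
  have hesurj : ∀ f, ∃ w, e w = f := by
    intro f
    induction f using MvPolynomial.induction_on' with
    | monomial d r =>
      refine ⟨r ⊗ₜ monomial d (1 : k), ?_⟩
      rw [he, map_monomial, map_one, smul_monomial, smul_eq_mul, mul_one]
    | add f g hf hg =>
      obtain ⟨a, rfl⟩ := hf; obtain ⟨b, rfl⟩ := hg
      exact ⟨a + b, map_add _ _ _⟩
  have hkey : ∀ w, Θ (e w • mapF φ y) = μ.lTensor L w := by
    intro w
    induction w with
    | zero => simp
    | add a b ha hb => rw [map_add, add_smul, map_add, map_add, ha, hb]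
    | tmul r f =>
      rw [he, smul_assoc, ← mapF_smul, map_smul, LinearMap.lTensor_tmul]
      refine (congrArg (r • ·) (hΘ (f • y))).trans ?_
      rw [smul_tmul', smul_eq_mul, mul_one]
      rfl
  obtain ⟨w, rfl⟩ := hesurj t
  have hw : μ.lTensor L w = 0 := by rw [← hkey]; exact hΘ0 _ h
  let J := LinearMap.ker μ
  obtain ⟨v, hv⟩ : w ∈ LinearMap.range (J.subtype.lTensor L) :=
    ((Module.Flat.lTensor_exact L (LinearMap.exact_subtype_ker_map μ)) w).mp hw
  suffices ¬ ∀ f ∈ J, f ∈ Q.comap (map φ) by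
    push Not at this
    obtain ⟨f, hf, hfq⟩ := this
    exact ⟨f, hfq, (Submodule.Quotient.mk_eq_zero N).mp hf⟩
  intro hJ
  refine ht ?_
  rw [← hv]
  clear hv
  induction v with
  | zero => simp
  | add a b ha hb => rw [map_add, map_add]; exact Q.add_mem ha hb
  | tmul r f =>
    rw [LinearMap.lTensor_tmul, he, ← algebraMap_smul (MvPolynomial σ L) r, smul_eq_mul]
    exact Q.mul_mem_left _ (hJ _ f.2)

/-- Membership modulo the prime of the base descends. -/
theorem exists_descend_fibre {A R : Type u} [CommRing A] [CommRing R] (φ : A →+* R) {σ κ : Type} [Finite σ] [Finite κ]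
    (N : Submodule (MvPolynomial σ A) (κ → MvPolynomial σ A)) (y : κ → MvPolynomial σ A) (Q : Ideal (MvPolynomial σ R))
    [Q.IsPrime] (s : MvPolynomial σ R) (hs : s ∉ Q)
    (h : s • mapF φ y ∈ baseN φ N ⊔ (Q.comap (algebraMap R (MvPolynomial σ R))).map (algebraMap R (MvPolynomial σ R)) •
        (⊤ : Submodule (MvPolynomial σ R) (κ → MvPolynomial σ R))) :
    ∃ t : MvPolynomial σ A, t ∉ Q.comap (map φ) ∧
      t • y ∈ N ⊔ ((Q.comap (map φ)).comap (algebraMap A (MvPolynomial σ A))).map (algebraMap A (MvPolynomial σ A)) •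
        (⊤ : Submodule (MvPolynomial σ A) (κ → MvPolynomial σ A)) := by
  set P := Q.comap (algebraMap R (MvPolynomial σ R)) with hP
  set p := (Q.comap (map φ)).comap (algebraMap A (MvPolynomial σ A)) with hp
  have hpP : p = P.comap φ := by
    rw [hp, hP, Ideal.comap_comap, Ideal.comap_comap]
    congr 1
    exact RingHom.ext fun a => map_C φ a
  let π : A →+* p.ResidueField := algebraMap A p.ResidueField
  let χ : R →+* P.ResidueField := algebraMap R P.ResidueField
  let ψ : p.ResidueField →+* P.ResidueField := Ideal.ResidueField.map p P φ hpP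
  have hψ : ψ.comp π = χ.comp φ := RingHom.ext fun a => Ideal.ResidueField.map_algebraMap (R := A) _ _ _ _ a
  -- the prime of the fibre over `Q`
  let θ : MvPolynomial σ P.ResidueField →+* Q.ResidueField :=
    eval₂Hom (Ideal.ResidueField.map P Q (algebraMap R (MvPolynomial σ R)) hP) fun i => algebraMap (MvPolynomial σ R) Q.ResidueField (X i)
  have hθ : θ.comp (map χ) = algebraMap _ Q.ResidueField := by
    refine MvPolynomial.ringHom_ext (fun r => ?_) fun i => ?_
    · rw [RingHom.comp_apply, map_C, eval₂Hom_C, Ideal.ResidueField.map_algebraMap]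
      rfl
    · rw [RingHom.comp_apply, map_X, eval₂Hom_X']
  haveI : (RingHom.ker θ).IsPrime := RingHom.ker_isPrime θ
  have hQ : (RingHom.ker θ).comap (map χ) = Q := by
    rw [RingHom.comap_ker, hθ]
    exact Ideal.ker_algebraMap_residueField Q
  have h1 : map χ s • mapF χ (mapF φ y) ∈ baseN χ (baseN φ N) := by
    obtain ⟨n, hn, z, hz, hnz⟩ := Submodule.mem_sup.1 h
    have hz0 : mapF χ z = 0 := by
      clear hnz
      refine Submodule.smul_induction_on hz (fun r hr x _ => ?_) (fun a b ha hb => ?_)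
      ·
        rw [mapF_smul]
        have : map χ r = 0 := by
          induction hr using Submodule.span_induction with
          | mem r hr =>
            obtain ⟨a, ha, rfl⟩ := hr
            rw [MvPolynomial.algebraMap_eq, map_C, show χ a = 0 from Ideal.algebraMap_residueField_eq_zero.2 ha, map_zero]
          | zero => exact map_zero _
          | add a b _ _ ha hb => rw [map_add, ha, hb, add_zero]
          | smul c r _ hr => rw [smul_eq_mul, map_mul, hr, mul_zero]
        rw [this, zero_smul]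
      · rw [map_add, ha, hb, add_zero]
    rw [← mapF_smul, ← hnz, map_add, hz0, add_zero]
    exact mapF_mem_baseN hn
  rw [mapF_mapF, baseN_baseN, ← hψ, ← mapF_mapF, ← baseN_baseN] at h1
  haveI : (RingHom.ker θ).IsPrime := RingHom.ker_isPrime θ
  have hψflat : ψ.Flat := by
    letI := ψ.toAlgebra
    exact (inferInstance : Module.Flat p.ResidueField P.ResidueField)
  obtain ⟨f, hfq, hf⟩ := exists_descend_mem ψ hψflat (baseN π N) (mapF π y) (RingHom.ker θ) (map χ s)
    (fun hm => hs (hQ ▸ hm)) h1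
  have hsurj : ∀ t : p.ResidueField, ∃ r : A, r ∉ p ∧ ∃ a, π a = π (algebraMap A A r) * t := fun t => by
    obtain ⟨a, b, hb, rfl⟩ := IsFractionRing.div_surjective (A := A ⧸ p) t
    obtain ⟨a, rfl⟩ := Ideal.Quotient.mk_surjective a
    obtain ⟨b, rfl⟩ := Ideal.Quotient.mk_surjective b
    refine ⟨b, fun hbp => nonZeroDivisors.ne_zero hb (Ideal.Quotient.eq_zero_iff_mem.2 hbp), a, ?_⟩
    have hb' : π b ≠ 0 := fun h0 => nonZeroDivisors.ne_zero hb
      (Ideal.Quotient.eq_zero_iff_mem.2 (Ideal.algebraMap_residueField_eq_zero.1 h0))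
    show π a = π b * (π a / π b)
    rw [mul_div_cancel₀ _ hb']
  have hker : ∀ a, π a = 0 → ∃ r : A, r ∉ p ∧ r • a ∈ p.map (algebraMap A A) := fun a ha =>
    ⟨1, fun h1 => (inferInstance : p.IsPrime).ne_top ((Ideal.eq_top_iff_one _).2 h1), by
      rw [Algebra.algebraMap_self, Ideal.map_id, one_smul]; exact Ideal.algebraMap_residueField_eq_zero.1 ha⟩
  have hcomm : ∀ g : MvPolynomial σ A, map ψ (map π g) = map χ (map φ g) := fun g => by
    rw [MvPolynomial.map_map, MvPolynomial.map_map, hψ]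
  have hout : ∀ r : A, r ∉ p → (C r : MvPolynomial σ A) ∉ Q.comap (map φ) := fun r hr hm => hr hm
  obtain ⟨r₁, hr₁, f', hf'⟩ := exists_num_poly π p hsurj f
  have hf'q : f' ∉ Q.comap (map φ) := fun hm => by
    rw [Ideal.mem_comap, ← hQ, Ideal.mem_comap, ← hcomm, hf', map_mul] at hm
    refine (‹(RingHom.ker θ).IsPrime›.mem_or_mem hm).elim (fun h' => hout r₁ hr₁ ?_) fun h' => hfq h'
    rw [Ideal.mem_comap, ← hQ, Ideal.mem_comap, ← hcomm, map_C]
    exact h'
  obtain ⟨r₂, hr₂, v', hv', hv⟩ := exists_num_baseN π p hsurj N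
    (show mapF π (f' • y) ∈ baseN π N by rw [mapF_smul, hf', mul_smul]; exact Submodule.smul_mem _ _ hf)
  let z := (C r₂ : MvPolynomial σ A) • f' • y - v'
  obtain ⟨r₃, hr₃, hr₃z⟩ := exists_smul_mem_of_mapF_eq_zero π p hker (z := z) (by
    rw [map_sub, mapF_smul, map_C, hv]; exact sub_self _)
  refine ⟨C r₃ * (C r₂ * f'), fun hm => ?_, ?_⟩
  · exact ((inferInstance : (Q.comap (map φ)).IsPrime).mem_or_mem hm).elim (hout r₃ hr₃) fun hm =>
      ((inferInstance : (Q.comap (map φ)).IsPrime).mem_or_mem hm).elim (hout r₂ hr₂) hf'q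
  · rw [mul_smul, mul_smul, show (C r₂ : MvPolynomial σ A) • f' • y = v' + z by simp [z], smul_add]
    exact Submodule.add_mem_sup (N.smul_mem _ hv') hr₃z

/-- A lift of finitely many vectors to a finitely generated subalgebra. -/
theorem exists_lift_vec {R : Type u} [CommRing R] {σ κ : Type} [Finite κ] (A : Subalgebra ℤ R)
    (hA : A.FG) {ι : Type*} [Finite ι] (w : ι → κ → MvPolynomial σ R) :
    ∃ (A' : Subalgebra ℤ R) (_ : A'.FG) (_ : A ≤ A'), ∀ B : Subalgebra ℤ R, A' ≤ B →
      ∀ i, ∃ w' : κ → MvPolynomial σ B, mapF B.val.toRingHom w' = w i := by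
  classical
  haveI := Fintype.ofFinite κ
  haveI := Fintype.ofFinite ι
  let C : Finset R := Finset.univ.biUnion fun i : ι => Finset.univ.biUnion fun k => (w i k).coeffs
  refine ⟨A ⊔ Algebra.adjoin ℤ (C : Set R), hA.sup (Subalgebra.fg_adjoin_finset _), le_sup_left, fun B hB i => ?_⟩
  have : ∀ k, ∃ g, map B.val.toRingHom g = w i k := fun k =>
    mem_range_map_iff_coeffs_subset.mpr fun a ha => ⟨⟨a, hB ((le_sup_right : _ ≤ A ⊔ _) (Algebra.subset_adjoin (by
      simp only [C, Finset.coe_biUnion, Set.mem_iUnion, Finset.mem_coe]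
      exact ⟨i, Finset.mem_univ _, k, Finset.mem_univ _, ha⟩)))⟩, rfl⟩
  choose g hg using this
  exact ⟨g, funext hg⟩

/-- **Fibrewise injective maps into flat modules**, finitely presented case over a polynomial ring. -/
theorem injective_fibre_poly {R : Type u} [CommRing R] {σ κ κ' : Type} [Finite σ] [Finite κ] [Finite κ']
    (Q : Ideal (MvPolynomial σ R)) [Q.IsPrime] (NN : Submodule (MvPolynomial σ R) (κ → MvPolynomial σ R)) (hNN : NN.FG)
    (NM : Submodule (MvPolynomial σ R) (κ' → MvPolynomial σ R)) (hNM : NM.FG)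
    (U : (κ' → MvPolynomial σ R) →ₗ[MvPolynomial σ R] (κ → MvPolynomial σ R)) (hU : NM ≤ NN.comap U)
    (hflat : FlatCA.FlatAt R Q ((κ → MvPolynomial σ R) ⧸ NN))
    (hinj : ∀ y, U y ∈ NN ⊔ (Q.comap (algebraMap R (MvPolynomial σ R))).map (algebraMap R (MvPolynomial σ R)) •
        (⊤ : Submodule (MvPolynomial σ R) (κ → MvPolynomial σ R)) →
      ∃ s : MvPolynomial σ R, s ∉ Q ∧ s • y ∈ NM ⊔ (Q.comap (algebraMap R (MvPolynomial σ R))).map
        (algebraMap R (MvPolynomial σ R)) • (⊤ : Submodule (MvPolynomial σ R) (κ' → MvPolynomial σ R))) :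
    (∀ y, U y ∈ NN → ∃ s : MvPolynomial σ R, s ∉ Q ∧ s • y ∈ NM) ∧
      FlatCA.FlatAt R Q ((κ → MvPolynomial σ R) ⧸ (NN ⊔ LinearMap.range U)) := by
  classical
  haveI := Fintype.ofFinite κ'
  obtain ⟨A₀, hA₀, N₀, hN₀, hdesc⟩ := exists_finite_type_model hNN
  obtain ⟨A₁, hA₁, h01, hflat₁⟩ := hdesc Q hflat
  obtain ⟨gM, hgM⟩ := hNM
  suffices key : ∀ y₀ : κ' → MvPolynomial σ R, (U y₀ ∈ NN → ∃ s : MvPolynomial σ R, s ∉ Q ∧ s • y₀ ∈ NM) ∧
      FlatCA.FlatAt R Q ((κ → MvPolynomial σ R) ⧸ (NN ⊔ LinearMap.range U)) from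
    ⟨fun y hy => (key y).1 hy, (key 0).2⟩
  intro y₀
  obtain ⟨A₂, hA₂, h12, hlift₂⟩ := exists_lift_vec A₁ hA₁ fun j : κ' => U (Pi.single j 1)
  obtain ⟨A₃, hA₃, h23, hlift₃⟩ := exists_lift_vec A₂ hA₂ fun g : gM => (g : κ' → MvPolynomial σ R)
  obtain ⟨A₄, hA₄, h34, hlift₄⟩ := exists_lift_vec A₃ hA₃ fun _ : Fin 1 => y₀
  choose u hu using hlift₂ A₄ (h23.trans h34)
  choose m hm using hlift₃ A₄ h34
  obtain ⟨y, hy⟩ := hlift₄ A₄ le_rfl 0
  let U₄ : (κ' → MvPolynomial σ A₄) →ₗ[MvPolynomial σ A₄] (κ → MvPolynomial σ A₄) :=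
    Fintype.linearCombination (MvPolynomial σ A₄) u
  have hUc : ∀ v, mapF A₄.val.toRingHom (U₄ v) = U (mapF A₄.val.toRingHom v) := fun v => by
    rw [Fintype.linearCombination_apply, map_sum]
    conv_rhs => rw [pi_eq_sum_univ' (mapF A₄.val.toRingHom v), map_sum]
    refine Finset.sum_congr rfl fun j _ => ?_
    rw [mapF_smul, hu, map_smul]
    rfl
  let h04 : A₀ ≤ A₄ := h01.trans (h12.trans (h23.trans h34))
  let N₄ := baseN (Subalgebra.inclusion h04).toRingHom N₀
  have hN₄ : baseN A₄.val.toRingHom N₄ = NN := by rw [baseN_baseN, val_incl, hN₀]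
  let T : Finset (κ → MvPolynomial σ A₄) :=
    gM.attach.image (fun g => U₄ (m g)) ∪ (if U y₀ ∈ NN then {U₄ y} else ∅)
  obtain ⟨A, hA, h4A, hmem⟩ := exists_subalgebra_forall_mem hA₄ N₄ T fun v hv => by
    rw [hN₄]
    rcases Finset.mem_union.1 hv with hv | hv
    · obtain ⟨g, -, rfl⟩ := Finset.mem_image.1 hv
      rw [hUc, hm]
      exact hU (hgM ▸ Submodule.subset_span g.2)
    · split_ifs at hv with hy₀
      · rw [Finset.mem_singleton.1 hv, hUc, hy]
        exact hy₀
      · exact (Finset.notMem_empty v hv).elim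
  let i := (Subalgebra.inclusion h4A).toRingHom
  let ι := A.val.toRingHom
  have hι : ι.comp i = A₄.val.toRingHom := val_incl h4A
  let UA : (κ' → MvPolynomial σ A) →ₗ[MvPolynomial σ A] (κ → MvPolynomial σ A) :=
    Fintype.linearCombination (MvPolynomial σ A) fun j => mapF i (u j)
  have hUA : ∀ v, mapF i (U₄ v) = UA (mapF i v) := fun v => by
    rw [Fintype.linearCombination_apply, map_sum, Fintype.linearCombination_apply]
    exact Finset.sum_congr rfl fun j _ => by rw [mapF_smul]; rfl
  have hUA' : ∀ v, mapF ι (UA v) = U (mapF ι v) := fun v => by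
    rw [Fintype.linearCombination_apply, map_sum]
    conv_rhs => rw [pi_eq_sum_univ' (mapF ι v), map_sum]
    refine Finset.sum_congr rfl fun j _ => ?_
    rw [mapF_smul, mapF_mapF, hι, hu, map_smul]
    rfl
  let NNA := baseN i N₄
  let NMA : Submodule (MvPolynomial σ A) (κ' → MvPolynomial σ A) :=
    Submodule.span (MvPolynomial σ A) (Set.range fun g => mapF i (m g))
  have hNNA : baseN ι NNA = NN := by rw [baseN_baseN, hι, hN₄]
  have hNMA : baseN ι NMA = NM := by
    refine le_antisymm (Submodule.span_le.mpr ?_) (hgM.ge.trans (Submodule.span_le.mpr ?_))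
    · rintro _ ⟨v, hv, rfl⟩
      induction hv using Submodule.span_induction with
      | mem v hv => obtain ⟨g, rfl⟩ := hv; rw [mapF_mapF, hι, hm, SetLike.mem_coe, ← hgM]; exact Submodule.subset_span g.2
      | zero => rw [map_zero]; exact zero_mem _
      | add a b _ _ ha hb => rw [map_add]; exact add_mem ha hb
      | smul c a _ ha => rw [mapF_smul]; exact NM.smul_mem _ ha
    · intro g hg
      rw [← show mapF ι (mapF i (m ⟨g, hg⟩)) = g by rw [mapF_mapF, hι, hm]]
      exact mapF_mem_baseN (Submodule.subset_span ⟨_, rfl⟩)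
  have hcomap : NMA ≤ NNA.comap UA := Submodule.span_le.2 fun v ⟨g, hg⟩ => by
    subst hg
    show UA (mapF i (m g)) ∈ NNA
    rw [← hUA]
    exact hmem _ (Finset.mem_union_left _ (Finset.mem_image.2 ⟨g, Finset.mem_attach _ _, rfl⟩))
  haveI : Algebra.FiniteType ℤ A := ⟨A.fg_top.mpr hA⟩
  haveI : IsNoetherianRing A := Algebra.FiniteType.isNoetherianRing ℤ A
  let q := Q.comap (map ι)
  have hflatA : FlatCA.FlatAt A q ((κ → MvPolynomial σ A) ⧸ NNA) := by
    let j := (Subalgebra.inclusion (h12.trans (h23.trans (h34.trans h4A)))).toRingHom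
    have hj : ι.comp j = A₁.val.toRingHom := val_incl _
    haveI : (q.comap (map j)).IsPrime := inferInstance
    have h := flatAt_baseN j _ q (show FlatCA.FlatAt A₁ (q.comap (map j)) _ by
      convert hflat₁ using 2
      rw [Ideal.comap_comap, ← hj]
      congr 1
      exact RingHom.ext fun f => (MvPolynomial.map_map j ι f))
    rw [baseN_baseN] at h
    rwa [show NNA = baseN (j.comp (Subalgebra.inclusion h01).toRingHom) N₀ from
      (show baseN i (baseN _ N₀) = _ by rw [baseN_baseN]; rfl)]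
  have hpP : ∀ {μ : Type} [Finite μ] (v : μ → MvPolynomial σ A),
      v ∈ (q.comap (algebraMap A (MvPolynomial σ A))).map (algebraMap A (MvPolynomial σ A)) •
        (⊤ : Submodule (MvPolynomial σ A) (μ → MvPolynomial σ A)) →
      mapF ι v ∈ (Q.comap (algebraMap R (MvPolynomial σ R))).map (algebraMap R (MvPolynomial σ R)) •
        (⊤ : Submodule (MvPolynomial σ R) (μ → MvPolynomial σ R)) := by
    intro μ _ v hv
    refine Submodule.smul_induction_on hv (fun r hr x _ => ?_) (fun a b ha hb => ?_)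
    ·
      rw [mapF_smul]
      refine Submodule.smul_mem_smul ?_ trivial
      have h1 := Ideal.mem_map_of_mem (map ι) hr
      rw [Ideal.map_map] at h1
      refine (Ideal.map_le_iff_le_comap.2 ?_) h1
      intro a ha
      rw [Ideal.mem_comap, RingHom.comp_apply, MvPolynomial.algebraMap_eq, MvPolynomial.algebraMap_eq, map_C]
      refine Ideal.mem_map_of_mem _ ?_
      rw [Ideal.mem_comap]
      have ha' : map ι (C a) ∈ Q := ha
      rwa [map_C] at ha'
    · rw [map_add]; exact add_mem ha hb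
  have hinjA : ∀ v, UA v ∈ NNA ⊔ (q.comap (algebraMap A (MvPolynomial σ A))).map (algebraMap A (MvPolynomial σ A)) •
        (⊤ : Submodule (MvPolynomial σ A) (κ → MvPolynomial σ A)) →
      ∃ s : MvPolynomial σ A, s ∉ q ∧ s • v ∈ NMA ⊔ (q.comap (algebraMap A (MvPolynomial σ A))).map
        (algebraMap A (MvPolynomial σ A)) • (⊤ : Submodule (MvPolynomial σ A) (κ' → MvPolynomial σ A)) := by
    intro v hv
    obtain ⟨n, hn, z, hz, hnz⟩ := Submodule.mem_sup.1 hv
    obtain ⟨s, hs, hsv⟩ := hinj (mapF ι v) (by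
      rw [← hUA', ← hnz, map_add, ← hNNA]
      exact Submodule.add_mem_sup (mapF_mem_baseN hn) (hpP z hz))
    exact exists_descend_fibre ι NMA v Q s hs (hNMA.symm ▸ hsv)
  obtain ⟨hinjc, hcok⟩ := noeth_step q NNA NMA UA hcomap hflatA hinjA
  refine ⟨fun hy₀ => ?_, ?_⟩
  · obtain ⟨s, hs, hsy⟩ := hinjc (mapF i y) (by
      rw [← hUA]
      exact hmem _ (Finset.mem_union_right _ (by rw [if_pos hy₀]; exact Finset.mem_singleton_self _)))
    refine ⟨map ι s, hs, ?_⟩
    rw [← hy, ← hι, ← mapF_mapF, ← mapF_smul, ← hNMA]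
    exact mapF_mem_baseN hsy
  · have h := flatAt_baseN ι _ Q hcok
    have heq : baseN ι (NNA ⊔ LinearMap.range UA) = NN ⊔ LinearMap.range U := by
      refine le_antisymm (Submodule.span_le.mpr ?_) (sup_le ?_ ?_)
      · rintro _ ⟨v, hv, rfl⟩
        obtain ⟨n, hn, _, ⟨w, rfl⟩, rfl⟩ := Submodule.mem_sup.1 hv
        rw [map_add, hUA', SetLike.mem_coe, ← hNNA]
        exact Submodule.add_mem_sup (mapF_mem_baseN hn) ⟨_, rfl⟩
      · rw [← hNNA]
        exact Submodule.span_mono (Set.image_mono fun v hv => Submodule.mem_sup_left hv)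
      · rintro _ ⟨w, rfl⟩
        rw [pi_eq_sum_univ' w, map_sum]
        refine Submodule.sum_mem _ fun j _ => ?_
        rw [map_smul]
        refine Submodule.smul_mem _ _ ?_
        rw [show U (Pi.single j 1) = mapF ι (UA (Pi.single j 1)) by
          rw [hUA']
          congr 1
          funext k
          by_cases hk : k = j
          · subst hk; simp
          · simp [Pi.single_eq_of_ne hk]]
        exact mapF_mem_baseN (Submodule.mem_sup_right ⟨_, rfl⟩)
    rwa [heq] at h

end Groth.FlatDescent.LocalFP
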