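import Mathlib
import Groth.Agent.FlatDescent.LocalFP.Poly
import Groth.Agent.FlatDescent.EssFP
import Groth.Prelude.Def_CAlgX

/-!
# Maps into flat modules which are injective on the closed fibre: essentially finitely presented case

`injective_and_flat_coker`: `S` local, essentially finitely presented over `R`, `p` the trace of its maximal ideal,
`M, N` finitely presented with `N` flat over `R`, `u : M → N` injective modulo `p`: then `u` is injective with flat
cokernel, in particular universally injective (`univInj`).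
-/

universe u

open TensorProduct MvPolynomial

namespace Groth.FlatDescent.LocalFP

/-- Flatness at a prime of a presented module is flatness of its local module. -/
theorem flatAt_iff_flat_of_presented {R P X : Type u} [CommRing R] [CommRing P] [Algebra R P] {κ : Type}
    (Q : Ideal P) [Q.IsPrime] (K : Submodule P (κ → P)) [AddCommGroup X] [Module P X] [Module R X] [IsScalarTower R P X]
    (ι : (κ → P) →ₗ[P] X) (hunit : ∀ s : P, s ∉ Q → Function.Bijective fun x : X => s • x)
    (hsurj : ∀ x, ∃ s : P, s ∉ Q ∧ ∃ y, ι y = s • x) (hker : ∀ y, ι y = 0 ↔ ∃ s : P, s ∉ Q ∧ s • y ∈ K) :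
    FlatCA.FlatAt R Q ((κ → P) ⧸ K) ↔ Module.Flat R X := by
  let f : ((κ → P) ⧸ K) →ₗ[P] X := K.liftQ ι fun y hy => LinearMap.mem_ker.2
    ((hker y).2 ⟨1, fun h => (‹Q.IsPrime›).ne_top ((Ideal.eq_top_iff_one _).2 h), by rwa [one_smul]⟩)
  haveI : IsLocalizedModule Q.primeCompl f := by
    constructor
    · exact fun s => (Module.End.isUnit_iff _).2 (hunit s s.2)
    · intro x
      obtain ⟨s, hs, y, hy⟩ := hsurj x
      exact ⟨(Submodule.Quotient.mk y, ⟨s, hs⟩), hy.symm⟩
    · intro a b hab
      obtain ⟨a, rfl⟩ := Submodule.Quotient.mk_surjective _ a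
      obtain ⟨b, rfl⟩ := Submodule.Quotient.mk_surjective _ b
      obtain ⟨s, hs, hsy⟩ := (hker (a - b)).1 (by rw [map_sub]; exact sub_eq_zero.2 hab)
      refine ⟨⟨s, hs⟩, (Submodule.Quotient.eq K).2 ?_⟩
      show s • a - s • b ∈ K
      rwa [← smul_sub]
  rw [← flatOn_primeCompl_iff]
  exact flatOn_iff_flat Q.primeCompl f

/-- A finitely presented module over a localisation of a quotient of a polynomial ring, presented over the latter. -/
theorem exists_presented {P S₀ S : Type u} [CommRing P] [CommRing S₀] [CommRing S] [IsLocalRing S] [Algebra P S₀]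
    [Algebra S₀ S] [Algebra P S] [IsScalarTower P S₀ S] (hπ : Function.Surjective (algebraMap P S₀))
    [Module.FinitePresentation P S₀] (T : Submonoid S₀) [IsLocalization T S] (X : Type u) [AddCommGroup X] [Module S X]
    [Module P X] [IsScalarTower P S X] [Module.FinitePresentation S X] :
    ∃ (k : ℕ) (K : Submodule P (Fin k → P)) (_ : K.FG) (ι : (Fin k → P) →ₗ[P] X),
      (∀ x, ∃ s : P, s ∉ (IsLocalRing.maximalIdeal S).comap (algebraMap P S) ∧ ∃ y, ι y = s • x) ∧
      ∀ y, ι y = 0 ↔ ∃ s : P, s ∉ (IsLocalRing.maximalIdeal S).comap (algebraMap P S) ∧ s • y ∈ K := by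
  letI : Module S₀ X := Module.compHom X (algebraMap S₀ S)
  haveI : IsScalarTower S₀ S X := IsScalarTower.of_algebraMap_smul fun _ _ => rfl
  haveI : IsScalarTower P S₀ X := IsScalarTower.of_algebraMap_smul fun a x => by
    show algebraMap S₀ S (algebraMap P S₀ a) • x = a • x
    rw [← IsScalarTower.algebraMap_apply P S₀ S, algebraMap_smul]
  obtain ⟨X₀, _, _, _, f, hf⟩ := exists_module_model T (C' := S) X
  letI : Module P X₀ := Module.compHom X₀ (algebraMap P S₀)
  haveI : IsScalarTower P S₀ X₀ := IsScalarTower.of_algebraMap_smul fun _ _ => rfl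
  haveI : Module.FinitePresentation P X₀ := Module.FinitePresentation.trans (R := P) (M := X₀) S₀
  obtain ⟨k, g, hg⟩ := Module.Finite.exists_fin' P X₀
  have hout : ∀ t : T, ∀ s : P, algebraMap P S₀ s = t → s ∉ (IsLocalRing.maximalIdeal S).comap (algebraMap P S) := by
    intro t s hst h
    rw [Ideal.mem_comap, IsScalarTower.algebraMap_apply P S₀ S, hst] at h
    exact h (IsLocalization.map_units S t)
  have hu : ∀ s : P, s ∉ (IsLocalRing.maximalIdeal S).comap (algebraMap P S) → IsUnit (algebraMap P S s) := fun s hs =>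
    Classical.not_not.1 fun h => hs h
  refine ⟨k, LinearMap.ker g, Module.FinitePresentation.fg_ker g hg, (f.restrictScalars P).comp g, fun x => ?_,
    fun y => ⟨fun hy => ?_, fun ⟨s, hs, hsy⟩ => ?_⟩⟩
  · obtain ⟨⟨x₀, t⟩, ht⟩ := IsLocalizedModule.surj T f x
    obtain ⟨s, hs⟩ := hπ t
    obtain ⟨y, rfl⟩ := hg x₀
    refine ⟨s, hout t s hs, y, ?_⟩
    show f (g y) = s • x
    rw [← algebraMap_smul S₀ s x, hs]
    exact ht.symm
  · obtain ⟨t, ht⟩ := (IsLocalizedModule.eq_zero_iff T f).1 hy
    obtain ⟨s, hs⟩ := hπ t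
    refine ⟨s, hout t s hs, ?_⟩
    rw [LinearMap.mem_ker, map_smul, ← algebraMap_smul S₀ s (g y), hs]
    exact ht
  · have h0 : s • ((f.restrictScalars P).comp g) y = 0 := by
      rw [← map_smul, LinearMap.comp_apply, LinearMap.mem_ker.1 hsy, map_zero]
    rw [← algebraMap_smul S s] at h0
    exact (hu s hs).smul_eq_zero.1 h0

/-- A map between presented modules, up to a unit. -/
theorem exists_matrix {P X Y : Type u} [CommRing P] [AddCommGroup X] [Module P X] [AddCommGroup Y] [Module P Y]
    (Q : Ideal P) [Q.IsPrime] {k k' : ℕ} (K : Submodule P (Fin k → P)) (K' : Submodule P (Fin k' → P)) (hK' : K'.FG)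
    (ι : (Fin k → P) →ₗ[P] Y) (hsurj : ∀ x, ∃ s : P, s ∉ Q ∧ ∃ y, ι y = s • x)
    (hker : ∀ y, ι y = 0 ↔ ∃ s : P, s ∉ Q ∧ s • y ∈ K) (ι' : (Fin k' → P) →ₗ[P] X)
    (hker' : ∀ y, ι' y = 0 ↔ ∃ s : P, s ∉ Q ∧ s • y ∈ K') (u : X →ₗ[P] Y) :
    ∃ (U : (Fin k' → P) →ₗ[P] (Fin k → P)) (c : P), c ∉ Q ∧ K' ≤ K.comap U ∧ ∀ y, ι (U y) = c • u (ι' y) := by
  classical
  have h1 : (1 : P) ∉ Q := fun h => (‹Q.IsPrime›).ne_top ((Ideal.eq_top_iff_one _).2 h)
  choose s hs w hw using fun j : Fin k' => hsurj (u (ι' (Pi.single j 1)))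
  let c₀ := ∏ j, s j
  have hc₀ : c₀ ∉ Q := fun h => by
    obtain ⟨j, -, hj⟩ := (‹Q.IsPrime›).prod_mem_iff.1 h
    exact hs j hj
  let U₀ : (Fin k' → P) →ₗ[P] (Fin k → P) :=
    Fintype.linearCombination P fun j => (∏ i ∈ Finset.univ.erase j, s i) • w j
  have hU₀ : ∀ y, ι (U₀ y) = c₀ • u (ι' y) := fun y => by
    rw [Fintype.linearCombination_apply, map_sum]
    conv_rhs => rw [pi_eq_sum_univ' y, map_sum, map_sum, Finset.smul_sum]
    refine Finset.sum_congr rfl fun j _ => ?_
    rw [map_smul, map_smul, hw, smul_smul (∏ i ∈ Finset.univ.erase j, s i),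
      Finset.prod_erase_mul _ _ (Finset.mem_univ j), map_smul, map_smul, smul_comm]
  obtain ⟨G, hG⟩ := hK'
  have hg : ∀ g : G, ∃ t : P, t ∉ Q ∧ t • U₀ g ∈ K := fun g => (hker _).1 (by
    rw [hU₀, (hker' _).2 ⟨1, h1, by rw [one_smul, ← hG]; exact Submodule.subset_span g.2⟩, map_zero, smul_zero])
  choose t ht htg using hg
  let d := ∏ g, t g
  have hd : d ∉ Q := fun h => by
    obtain ⟨g, -, hg⟩ := (‹Q.IsPrime›).prod_mem_iff.1 h
    exact ht g hg
  refine ⟨d • U₀, d * c₀, fun h => ((‹Q.IsPrime›).mem_or_mem h).elim hd hc₀, ?_, fun y => ?_⟩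
  · refine hG.ge.trans (Submodule.span_le.2 fun g hg => ?_)
    show d • U₀ g ∈ K
    rw [show d = (∏ i ∈ Finset.univ.erase (⟨g, hg⟩ : G), t i) * t ⟨g, hg⟩ from
      (Finset.prod_erase_mul _ _ (Finset.mem_univ _)).symm, mul_smul]
    exact K.smul_mem _ (htg ⟨g, hg⟩)
  · rw [LinearMap.smul_apply, map_smul, hU₀, smul_smul]

set_option maxHeartbeats 1000000 in
/-- **Injective on the closed fibre ⇒ injective with flat cokernel.** -/
theorem injective_and_flat_coker {R S M N : Type u} [CommRing R] [CommRing S] [IsLocalRing S] [Algebra R S]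
    (hS : CAlgX.IsEssFinitePresentation R S) [AddCommGroup M] [Module S M] [Module.FinitePresentation S M]
    [AddCommGroup N] [Module S N] [Module R N] [IsScalarTower R S N] [Module.FinitePresentation S N] [Module.Flat R N]
    (u : M →ₗ[S] N)
    (hu : ∀ x : M, u x ∈ ((IsLocalRing.maximalIdeal S).comap (algebraMap R S)).map (algebraMap R S) •
        (⊤ : Submodule S N) →
      x ∈ ((IsLocalRing.maximalIdeal S).comap (algebraMap R S)).map (algebraMap R S) • (⊤ : Submodule S M)) :
    Function.Injective u ∧ Module.Flat R (N ⧸ LinearMap.range u) := by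
  obtain ⟨S₀, _, _, _, _, T, hfp, hloc⟩ := hS
  obtain ⟨n, π, hπ, hker⟩ := Algebra.FinitePresentation.out (R := R) (A := S₀)
  let P := MvPolynomial (Fin n) R
  letI : Algebra P S₀ := π.toRingHom.toAlgebra
  letI : Algebra P S := ((algebraMap S₀ S).comp π.toRingHom).toAlgebra
  haveI : IsScalarTower P S₀ S := IsScalarTower.of_algebraMap_eq fun _ => rfl
  haveI : IsScalarTower R P S₀ := IsScalarTower.of_algebraMap_eq fun r => (π.commutes r).symm
  haveI : IsScalarTower R P S := IsScalarTower.of_algebraMap_eq fun r => by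
    show _ = algebraMap S₀ S (π (algebraMap R P r))
    rw [π.commutes, ← IsScalarTower.algebraMap_apply]
  haveI : Module.FinitePresentation P S₀ :=
    Module.finitePresentation_of_surjective (Algebra.linearMap P S₀) hπ (by exact hker)
  letI : Module P M := Module.compHom M (algebraMap P S)
  haveI : IsScalarTower P S M := IsScalarTower.of_algebraMap_smul fun _ _ => rfl
  letI : Module P N := Module.compHom N (algebraMap P S)
  haveI : IsScalarTower P S N := IsScalarTower.of_algebraMap_smul fun _ _ => rfl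
  haveI : IsScalarTower R P N := IsScalarTower.of_algebraMap_smul fun r x => by
    show algebraMap P S (algebraMap R P r) • x = r • x
    rw [← IsScalarTower.algebraMap_apply, algebraMap_smul]
  let Q : Ideal P := (IsLocalRing.maximalIdeal S).comap (algebraMap P S)
  obtain ⟨k, KN, hKN, ιN, hsN, hkN⟩ := exists_presented (P := P) (S := S) hπ T N
  obtain ⟨k', KM, hKM, ιM, hsM, hkM⟩ := exists_presented (P := P) (S := S) hπ T M
  obtain ⟨U, c, hc, hUK, hU⟩ := exists_matrix Q KN KM hKM ιN hsN hkN ιM hkM (u.restrictScalars P)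
  have hu' : ∀ s : P, s ∉ Q → IsUnit (algebraMap P S s) := fun s hs => Classical.not_not.1 fun h => hs h
  have hbij : ∀ {X : Type u} [AddCommGroup X] [Module S X] [Module P X] [IsScalarTower P S X] (s : P), s ∉ Q →
      Function.Bijective fun x : X => s • x := fun {X} _ _ _ _ s hs => by
    have : (fun x : X => s • x) = fun x : X => (hu' s hs).unit • x := funext fun x => (algebraMap_smul S s x).symm
    rw [this]
    exact MulAction.bijective _
  have hflatN : FlatCA.FlatAt R Q ((Fin k → P) ⧸ KN) :=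
    (flatAt_iff_flat_of_presented Q KN ιN (hbij (X := N)) hsN hkN).2 inferInstance
  -- the ideals
  set I := (Q.comap (algebraMap R P)).map (algebraMap R P) with hI
  have hIS : I.map (algebraMap P S) = ((IsLocalRing.maximalIdeal S).comap (algebraMap R S)).map (algebraMap R S) := by
    rw [hI, Ideal.map_map, ← IsScalarTower.algebraMap_eq, Ideal.comap_comap, ← IsScalarTower.algebraMap_eq]
  have hpush : ∀ {k : ℕ} {X : Type u} [AddCommGroup X] [Module S X] [Module P X] [IsScalarTower P S X]
      (ι : (Fin k → P) →ₗ[P] X) (v : Fin k → P), v ∈ I • (⊤ : Submodule P (Fin k → P)) →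
      ι v ∈ I.map (algebraMap P S) • (⊤ : Submodule S X) := fun {k X} _ _ _ _ ι v hv => by
    refine Submodule.smul_induction_on hv (fun r hr x _ => ?_) (fun a b ha hb => ?_)
    · rw [map_smul, ← algebraMap_smul S r (ι x)]
      exact Submodule.smul_mem_smul (Ideal.mem_map_of_mem _ hr) trivial
    · rw [map_add]; exact add_mem ha hb
  have hinj : ∀ y, U y ∈ KN ⊔ I • (⊤ : Submodule P (Fin k → P)) →
      ∃ s : P, s ∉ Q ∧ s • y ∈ KM ⊔ I • (⊤ : Submodule P (Fin k' → P)) := by
    intro y hy
    obtain ⟨n, hn, z, hz, hnz⟩ := Submodule.mem_sup.1 hy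
    have h1 : u (ιM y) ∈ I.map (algebraMap P S) • (⊤ : Submodule S N) := by
      have h2 : c • u (ιM y) = ιN z := by
        rw [show c • u (ιM y) = ιN (U y) from (hU y).symm, ← hnz, map_add,
          (hkN n).2 ⟨1, fun h => Ideal.IsPrime.ne_top inferInstance ((Ideal.eq_top_iff_one Q).2 h), by rwa [one_smul]⟩,
          zero_add]
      have h3 : algebraMap P S c • u (ιM y) ∈ I.map (algebraMap P S) • (⊤ : Submodule S N) := by
        rw [algebraMap_smul, h2]
        exact hpush ιN z hz
      exact (Submodule.smul_mem_iff_of_isUnit _ (hu' c hc)).1 h3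
    have h4 : ιM y ∈ I.map (algebraMap P S) • (⊤ : Submodule S M) := by
      rw [hIS] at h1 ⊢
      exact hu _ h1
    have key : ∃ s : P, s ∉ Q ∧ ∃ z ∈ I • (⊤ : Submodule P (Fin k' → P)), s • ιM y = ιM z := by
      rw [show I.map (algebraMap P S) • (⊤ : Submodule S M) = (I.map (algebraMap P S) • ⊤ : Submodule S M) from rfl] at h4
      have h4' : ιM y ∈ (I • (⊤ : Submodule P M)) := by
        rw [← Submodule.restrictScalars_mem P, Ideal.smul_restrictScalars, Submodule.restrictScalars_top] at h4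
        exact h4
      refine Submodule.smul_induction_on (p := fun v => ∃ s : P, s ∉ Q ∧ ∃ z ∈ I • (⊤ : Submodule P (Fin k' → P)),
        s • v = ιM z) h4' (fun r hr x _ => ?_) (fun a b ha hb => ?_)
      · obtain ⟨s, hs, w, hw⟩ := hsM x
        exact ⟨s, hs, r • w, Submodule.smul_mem_smul hr trivial, by rw [map_smul, hw, smul_comm]⟩
      · obtain ⟨s, hs, za, hza, ea⟩ := ha
        obtain ⟨t, ht, zb, hzb, eb⟩ := hb
        refine ⟨s * t, fun h => (Ideal.IsPrime.mem_or_mem inferInstance h).elim hs ht, t • za + s • zb,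
          add_mem (Submodule.smul_mem _ _ hza) (Submodule.smul_mem _ _ hzb), ?_⟩
        rw [map_add, map_smul, map_smul, ← ea, ← eb, smul_add, smul_smul, smul_smul, mul_comm t s]
    obtain ⟨s, hs, z', hz', hsz⟩ := key
    obtain ⟨s', hs', hmem⟩ := (hkM (s • y - z')).1 (by rw [map_sub, map_smul, hsz, sub_self])
    refine ⟨s' * s, fun h => (Ideal.IsPrime.mem_or_mem inferInstance h).elim hs' hs, ?_⟩
    rw [show (s' * s) • y = s' • (s • y - z') + s' • z' by rw [smul_sub, sub_add_cancel, mul_smul]]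
    exact Submodule.add_mem_sup hmem (Submodule.smul_mem _ _ hz')
  obtain ⟨hinjU, hflatC⟩ := injective_fibre_poly Q KN hKN KM hKM U hUK hflatN hinj
  refine ⟨(injective_iff_map_eq_zero _).2 fun x hx => ?_, ?_⟩
  · obtain ⟨s, hs, y, hy⟩ := hsM x
    have h0 : ιN (U y) = 0 := by
      rw [hU, hy, map_smul, LinearMap.restrictScalars_apply, hx, smul_zero, smul_zero]
    obtain ⟨t, ht, hty⟩ := (hkN _).1 h0
    rw [← map_smul] at hty
    obtain ⟨t', ht', hy'⟩ := hinjU _ hty
    have h1 : ιM y = 0 := (hkM y).2 ⟨t' * t, fun h => (Ideal.IsPrime.mem_or_mem inferInstance h).elim ht' ht,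
      by rwa [mul_smul]⟩
    exact (hbij (X := M) s hs).1 (show s • x = s • (0 : M) by rw [smul_zero, ← hy, h1])
  · let q : N →ₗ[P] N ⧸ LinearMap.range u := (LinearMap.range u).mkQ.restrictScalars P
    refine (flatAt_iff_flat_of_presented Q _ (q.comp ιN) (hbij (X := N ⧸ LinearMap.range u)) (fun x => ?_)
      (fun y => ⟨fun hy => ?_, fun ⟨s, hs, hsy⟩ => ?_⟩)).1 hflatC
    · obtain ⟨x, rfl⟩ := Submodule.Quotient.mk_surjective _ x
      obtain ⟨s, hs, y, hy⟩ := hsN x
      exact ⟨s, hs, y, by rw [LinearMap.comp_apply, hy, map_smul]; rfl⟩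
    · obtain ⟨x, hx⟩ := (Submodule.Quotient.mk_eq_zero _).1 hy
      obtain ⟨s, hs, w, hw⟩ := hsM x
      obtain ⟨t, ht, hmem⟩ := (hkN ((c * s) • y - U w)).1 (by
        rw [map_sub, map_smul, hU, hw, map_smul, LinearMap.restrictScalars_apply, hx, ← mul_smul, sub_self])
      refine ⟨t * (c * s), fun h => (Ideal.IsPrime.mem_or_mem inferInstance h).elim ht fun h =>
        (Ideal.IsPrime.mem_or_mem inferInstance h).elim hc hs, ?_⟩
      rw [show (t * (c * s)) • y = t • ((c * s) • y - U w) + t • U w by rw [smul_sub, sub_add_cancel, mul_smul]]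
      exact Submodule.add_mem_sup hmem (Submodule.smul_mem _ _ ⟨w, rfl⟩)
    · obtain ⟨n, hn, _, ⟨w, rfl⟩, hnw⟩ := Submodule.mem_sup.1 hsy
      refine (hbij (X := N ⧸ LinearMap.range u) s hs).1 (show s • q (ιN y) = s • 0 from ?_)
      rw [smul_zero, ← map_smul, ← map_smul, ← hnw, map_add, map_add,
        (hkN n).2 ⟨1, fun h => Ideal.IsPrime.ne_top inferInstance ((Ideal.eq_top_iff_one Q).2 h), by rwa [one_smul]⟩,
        map_zero, zero_add, hU, map_smul]
      rw [show q ((u.restrictScalars P) (ιM w)) = 0 from (Submodule.Quotient.mk_eq_zero _).2 ⟨_, rfl⟩, smul_zero]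

theorem univInj_aux {R S M N C : Type u} [CommRing R] [CommRing S] [Algebra R S] [AddCommGroup M] [Module R M]
    [Module S M] [IsScalarTower R S M] [AddCommGroup N] [Module R N] [Module S N] [IsScalarTower R S N]
    [AddCommGroup C] [Module R C] [Module S C] [IsScalarTower R S C] (hC : Module.Flat R C) (f : M →ₗ[S] N)
    (g : N →ₗ[S] C) (hf : Function.Injective f) (h : Function.Exact f g) (hg : Function.Surjective g) (Q : Type u)
    [AddCommGroup Q] [Module R Q] : Function.Injective ((f.restrictScalars R).lTensor Q) :=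
  haveI := hC
  LinearMap.lTensor_injective_of_exact_of_flat (g.restrictScalars R) hg (f.restrictScalars R) hf h Q

/-- Injective with flat cokernel into a flat module: universally injective. -/
theorem univInj {R S M N : Type u} [CommRing R] [CommRing S] [IsLocalRing S] [Algebra R S]
    (hS : CAlgX.IsEssFinitePresentation R S) [AddCommGroup M] [Module S M] [Module R M] [IsScalarTower R S M]
    [Module.FinitePresentation S M]
    [AddCommGroup N] [Module S N] [Module R N] [IsScalarTower R S N] [Module.FinitePresentation S N] [Module.Flat R N]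
    (u : M →ₗ[S] N)
    (hu : ∀ x : M, u x ∈ ((IsLocalRing.maximalIdeal S).comap (algebraMap R S)).map (algebraMap R S) •
        (⊤ : Submodule S N) →
      x ∈ ((IsLocalRing.maximalIdeal S).comap (algebraMap R S)).map (algebraMap R S) • (⊤ : Submodule S M))
    (Q : Type u) [AddCommGroup Q] [Module R Q] : Function.Injective ((u.restrictScalars R).lTensor Q) := by
  obtain ⟨hi, hf⟩ := injective_and_flat_coker hS u hu
  exact univInj_aux (R := R) (S := S) hf u (LinearMap.range u).mkQ hi (LinearMap.exact_map_mkQ_range u)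
    (Submodule.mkQ_surjective (LinearMap.range u)) Q

end Groth.FlatDescent.LocalFP
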