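import Mathlib
import Groth.Agent.FlatDescent.LocalFP.Main
import Groth.Agent.FlatDescent.Sheaf
import Groth.Agent.FlatDescent.Global
import Groth.Agent.FlatDescent.PdFibre
import Groth.Agent.QCohLib.Coherent
import Groth.Agent.QCohLib.StalkRestrict
import Groth.Agent.QCohLib.FiniteType
import Groth.Agent.QCohLib.Cover

/-!
# Injective stalk maps with flat cokernel

* `flat_sections`: sections of a flat quasi-coherent module on affines are flat;
* `finitePresentation_kernel_sections`;
* `injective_and_flat_iff`: the pointwise criterion (EGA IV 11.3.7);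
* `isOpen_injective_flat`.
-/

universe u

open AlgebraicGeometry CategoryTheory Limits Groth.Agent.QCohLib TensorProduct

namespace Groth.FlatDescent.LocalFP

variable {X Y : Scheme.{u}}

theorem flat_sections (f : X ⟶ Y) (M : X.Modules) [M.IsQuasicoherent] {V : Y.Opens} (hV : IsAffineOpen V)
    {U : X.Opens} (hU : IsAffineOpen U) (e : U ≤ f ⁻¹ᵁ V) (h : ∀ x ∈ U, FlatMod.IsFlatOverAt f M x) :
    letI := appLEModule f M V U e
    Module.Flat Γ(Y, V) Γ(M, U) := by
  letI := (f.appLE V U e).hom.toAlgebra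
  letI := appLEModule f M V U e
  haveI : IsScalarTower Γ(Y, V) Γ(X, U) Γ(M, U) := IsScalarTower.of_algebraMap_smul fun _ _ => rfl
  refine flat_of_flatAt (P := Γ(X, U)) fun Q _ => ?_
  let P : PrimeSpectrum Γ(X, U) := ⟨Q, inferInstance⟩
  have hx : hU.fromSpec P ∈ U := hU.range_fromSpec.le ⟨P, rfl⟩
  have h1 := (isFlatOverAt_iff f M hV hU e hx).mp (h _ hx)
  have : hU.primeIdealOf ⟨hU.fromSpec P, hx⟩ = P :=
    hU.fromSpec.isOpenEmbedding.injective (hU.fromSpec_primeIdealOf _)
  simp only [this] at h1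
  exact h1

theorem finitePresentation_kernel_sections (f : X ⟶ Y) [LocallyOfFinitePresentation f] {G H : X.Modules}
    [G.IsQuasicoherent] [H.IsQuasicoherent] (hG : G.IsFinitePresentation) (hH : H.IsFinitePresentation) (p : G ⟶ H)
    [Epi p] {V : Y.Opens} (hV : IsAffineOpen V) {U : X.Opens} (hU : IsAffineOpen U) (e : U ≤ f ⁻¹ᵁ V)
    (hflat : ∀ x ∈ U, FlatMod.IsFlatOverAt f H x) :
    Module.FinitePresentation Γ(X, U) (LinearMap.ker (appLinearMap p U)) := by
  letI := (f.appLE V U e).hom.toAlgebra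
  letI := appLEModule f H V U e
  haveI : IsScalarTower Γ(Y, V) Γ(X, U) Γ(H, U) := IsScalarTower.of_algebraMap_smul fun _ _ => rfl
  haveI : Algebra.FinitePresentation Γ(Y, V) Γ(X, U) :=
    HasRingHomProperty.appLE @LocallyOfFinitePresentation f inferInstance ⟨V, hV⟩ ⟨U, hU⟩ e
  haveI := finitePresentation_sections (M := G) hG hU
  haveI := finitePresentation_sections (M := H) hH hU
  haveI : Module.Flat Γ(Y, V) Γ(H, U) := flat_sections f H hV hU e hflat
  exact finitePresentation_of_exact_flat (A := Γ(Y, V)) (LinearMap.ker (appLinearMap p U)).subtype (appLinearMap p U)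
    Subtype.val_injective (LinearMap.exact_subtype_ker_map _) (app_surjective_of_epi p hU)

theorem finitePresentation_kernel (f : X ⟶ Y) [LocallyOfFinitePresentation f] {G H : X.Modules}
    [G.IsQuasicoherent] [H.IsQuasicoherent] (hG : G.IsFinitePresentation) (hH : H.IsFinitePresentation) (p : G ⟶ H)
    [Epi p] (hflat : ∀ x, FlatMod.IsFlatOverAt f H x) : (kernel p).IsFinitePresentation := by
  haveI := isQuasicoherent_kernel p
  have hcov : ∀ x : X, ∃ U : X.affineOpens, x ∈ U.1 ∧ Module.FinitePresentation Γ(X, U.1) Γ(kernel p, U.1) := by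
    intro x
    obtain ⟨_, ⟨V, hV, rfl⟩, hxV, -⟩ :=
      Y.isBasis_affineOpens.exists_subset_of_mem_open (Set.mem_univ (f x)) isOpen_univ
    obtain ⟨_, ⟨U, hU, rfl⟩, hxU, e⟩ := X.isBasis_affineOpens.exists_subset_of_mem_open hxV (f ⁻¹ᵁ V).2
    refine ⟨⟨U, hU⟩, hxU, ?_⟩
    haveI := finitePresentation_kernel_sections f hG hH p hV hU e fun y _ => hflat y
    let φ : Γ(kernel p, U) →ₗ[Γ(X, U)] LinearMap.ker (appLinearMap p U) :=
      (appLinearMap (kernel.ι p) U).codRestrict _ fun c =>
        LinearMap.mem_ker.2 ((exists_kernel_app_eq p U _).2 ⟨c, rfl⟩)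
    have hφ : Function.Bijective φ := by
      refine ⟨fun a b hab => ?_, fun s => ?_⟩
      · exact (mono_iff_app_injective (kernel.ι p)).mp inferInstance U (congrArg Subtype.val hab)
      · obtain ⟨c, hc⟩ := (exists_kernel_app_eq p U s.1).1 s.2
        exact ⟨c, Subtype.ext hc⟩
    exact Module.FinitePresentation.of_equiv (LinearEquiv.ofBijective φ hφ).symm
  choose W hW hfp using hcov
  exact isFinitePresentation_of_affine_cover (kernel p) W (fun x => ⟨x, hW x⟩) hfp

/-- The stalk of the cokernel. -/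
theorem flatAt_cokernel_iff (f : X ⟶ Y) {F F' : X.Modules} (u : F' ⟶ F) (x : X) :
    FlatMod.IsFlatOverAt f (cokernel u) x ↔
      letI := FlatMod.moduleStalkOver f F x
      letI : Module (Y.presheaf.stalk (f x)) (F.presheaf.stalk x ⧸ LinearMap.range (stalkLinearMap u x)) :=
        Module.compHom _ (f.stalkMap x).hom
      Module.Flat (Y.presheaf.stalk (f x)) (F.presheaf.stalk x ⧸ LinearMap.range (stalkLinearMap u x)) := by
  letI := FlatMod.moduleStalkOver f F x
  letI : Module (Y.presheaf.stalk (f x)) (F.presheaf.stalk x ⧸ LinearMap.range (stalkLinearMap u x)) :=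
    Module.compHom _ (f.stalkMap x).hom
  letI : Module (Y.presheaf.stalk (f x)) ((cokernel u).presheaf.stalk x) := FlatMod.moduleStalkOver f (cokernel u) x
  have hker : LinearMap.ker (stalkLinearMap (cokernel.π u) x) = LinearMap.range (stalkLinearMap u x) := by
    ext m
    exact (stalk_cokernel_exact u x m)
  have hsurj : Function.Surjective (stalkLinearMap (cokernel.π u) x) :=
    (epi_iff_stalk_surjective (cokernel.π u)).mp inferInstance x
  let e := (Submodule.quotEquivOfEq _ _ hker.symm).trans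
    ((stalkLinearMap (cokernel.π u) x).quotKerEquivOfSurjective hsurj)
  let e' : (F.presheaf.stalk x ⧸ LinearMap.range (stalkLinearMap u x)) ≃ₗ[Y.presheaf.stalk (f x)]
      (cokernel u).presheaf.stalk x :=
    { e.toAddEquiv with map_smul' := fun r v => e.map_smul ((f.stalkMap x).hom r) v }
  exact ⟨fun h => haveI : Module.Flat _ _ := h; Module.Flat.of_linearEquiv e',
    fun h => haveI : Module.Flat _ _ := h; Module.Flat.of_linearEquiv e'.symm⟩

/-- The affine algebra of EGA IV 11.3.7. -/
theorem mem_smul_of_flat_coker {R S M N : Type u} [CommRing R] [CommRing S] [Algebra R S] [AddCommGroup M] [Module S M]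
    [AddCommGroup N] [Module S N] [Module R N] [IsScalarTower R S N] (u : M →ₗ[S] N) (hi : Function.Injective u)
    (hC : Module.Flat R (N ⧸ LinearMap.range u)) (p : Ideal R) (m : M)
    (hm : u m ∈ p.map (algebraMap R S) • (⊤ : Submodule S N)) : m ∈ p.map (algebraMap R S) • (⊤ : Submodule S M) := by
  letI : Module R M := Module.compHom M (algebraMap R S)
  haveI : IsScalarTower R S M := IsScalarTower.of_algebraMap_smul fun _ _ => rfl
  have hinj := univInj_aux (R := R) (S := S) hC u (LinearMap.range u).mkQ hi (LinearMap.exact_map_mkQ_range u)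
    (Submodule.mkQ_surjective (LinearMap.range u)) (R ⧸ p)
  have h1 : ∀ {W : Type u} [AddCommGroup W] [Module R W] [Module S W] [IsScalarTower R S W] (w : W),
      (1 : R ⧸ p) ⊗ₜ[R] w = 0 ↔ w ∈ p.map (algebraMap R S) • (⊤ : Submodule S W) := fun {W} _ _ _ _ w => by
    rw [← Submodule.restrictScalars_mem R, Ideal.smul_restrictScalars, Submodule.restrictScalars_top,
      ← (TensorProduct.quotTensorEquivQuotSMul W p).map_eq_zero_iff, ← map_one (Ideal.Quotient.mk p),
      TensorProduct.quotTensorEquivQuotSMul_mk_tmul, one_smul, Submodule.Quotient.mk_eq_zero]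
  refine (h1 m).1 (hinj ?_)
  rw [map_zero, LinearMap.lTensor_tmul]
  exact (h1 (u m)).2 hm

/-- **Pointwise criterion** (EGA IV 11.3.7). -/
theorem injective_and_flat_iff (f : X ⟶ Y) [LocallyOfFinitePresentation f] {F F' : X.Modules} [F.IsQuasicoherent]
    [F'.IsQuasicoherent] (hF : F.IsFinitePresentation) (hF' : F'.IsFinitePresentation) (u : F' ⟶ F) (x : X)
    (hflat : FlatMod.IsFlatOverAt f F x) :
    (Function.Injective (stalkLinearMap u x) ∧ FlatMod.IsFlatOverAt f (cokernel u) x) ↔
      ∀ m : ↑(F'.presheaf.stalk x),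
        stalkLinearMap u x m ∈ (Ideal.map (f.stalkMap x).hom (IsLocalRing.maximalIdeal ↑(Y.presheaf.stalk (f x))) •
          (⊤ : Submodule ↑(X.presheaf.stalk x) ↑(F.presheaf.stalk x))) →
        m ∈ (Ideal.map (f.stalkMap x).hom (IsLocalRing.maximalIdeal ↑(Y.presheaf.stalk (f x))) •
          (⊤ : Submodule ↑(X.presheaf.stalk x) ↑(F'.presheaf.stalk x))) := by
  letI := (f.stalkMap x).hom.toAlgebra
  letI := FlatMod.moduleStalkOver f F x
  haveI : IsScalarTower (Y.presheaf.stalk (f x)) (X.presheaf.stalk x) (F.presheaf.stalk x) :=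
    IsScalarTower.of_algebraMap_smul fun _ _ => rfl
  rw [flatAt_cokernel_iff f u x]
  constructor
  · rintro ⟨hi, hC⟩ m hm
    exact mem_smul_of_flat_coker (R := Y.presheaf.stalk (f x)) (stalkLinearMap u x) hi hC _ m hm
  · intro h
    obtain ⟨_, ⟨V, hV, rfl⟩, hxV, -⟩ :=
      Y.isBasis_affineOpens.exists_subset_of_mem_open (Set.mem_univ (f x)) isOpen_univ
    obtain ⟨_, ⟨U, hU, rfl⟩, hxU, e⟩ := X.isBasis_affineOpens.exists_subset_of_mem_open hxV (f ⁻¹ᵁ V).2
    letI := (f.appLE V U e).hom.toAlgebra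
    haveI : Algebra.FinitePresentation Γ(Y, V) Γ(X, U) :=
      HasRingHomProperty.appLE @LocallyOfFinitePresentation f inferInstance ⟨V, hV⟩ ⟨U, hU⟩ e
    letI := X.presheaf.algebra_section_stalk (U := U) ⟨x, hxU⟩
    haveI := hU.isLocalization_stalk ⟨x, hxU⟩
    letI := Y.presheaf.algebra_section_stalk (U := V) ⟨f x, e hxU⟩
    haveI := hV.isLocalization_stalk ⟨f x, e hxU⟩
    letI : Algebra Γ(Y, V) (X.presheaf.stalk x) :=
      ((algebraMap Γ(X, U) (X.presheaf.stalk x)).comp (algebraMap Γ(Y, V) Γ(X, U))).toAlgebra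
    haveI : IsScalarTower Γ(Y, V) Γ(X, U) (X.presheaf.stalk x) := IsScalarTower.of_algebraMap_eq fun _ => rfl
    haveI : IsScalarTower Γ(Y, V) (Y.presheaf.stalk (f x)) (X.presheaf.stalk x) := IsScalarTower.of_algebraMap_eq fun b => by
      show X.presheaf.germ U x hxU (f.appLE V U e b) = (f.stalkMap x) (Y.presheaf.germ V (f x) (e hxU) b)
      rw [Scheme.Hom.germ_stalkMap_apply, Scheme.Hom.appLE, CommRingCat.comp_apply, TopCat.Presheaf.germ_res_apply]
    have hS : CAlgX.IsEssFinitePresentation Γ(Y, V) (X.presheaf.stalk x) :=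
      ⟨Γ(X, U), inferInstance, inferInstance, X.presheaf.algebra_section_stalk (U := U) ⟨x, hxU⟩, inferInstance,
        (hU.primeIdealOf ⟨x, hxU⟩).asIdeal.primeCompl, inferInstance, inferInstance⟩
    have hfp : ∀ {M : X.Modules} [M.IsQuasicoherent], M.IsFinitePresentation →
        Module.FinitePresentation (X.presheaf.stalk x) (M.presheaf.stalk x) := fun {M} _ hM => by
      haveI := finitePresentation_sections (M := M) hM hU
      letI := germModule M x hxU
      haveI : IsScalarTower Γ(X, U) (X.presheaf.stalk x) (M.presheaf.stalk x) :=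
        IsScalarTower.of_algebraMap_smul fun _ _ => rfl
      haveI := isLocalizedModule_germ (M := M) hU x hxU
      exact FinitePresentation.of_isBaseChange (germLinearMap M x hxU)
        (IsLocalizedModule.isBaseChange (hU.primeIdealOf ⟨x, hxU⟩).asIdeal.primeCompl _ (germLinearMap M x hxU))
    haveI := hfp hF
    haveI := hfp hF'
    letI : Module Γ(Y, V) (F.presheaf.stalk x) := Module.compHom _ (algebraMap Γ(Y, V) (X.presheaf.stalk x))
    haveI : IsScalarTower Γ(Y, V) (X.presheaf.stalk x) (F.presheaf.stalk x) :=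
      IsScalarTower.of_algebraMap_smul fun _ _ => rfl
    haveI : IsScalarTower Γ(Y, V) (Y.presheaf.stalk (f x)) (F.presheaf.stalk x) :=
      IsScalarTower.of_algebraMap_smul fun b m => by
        show algebraMap (Y.presheaf.stalk (f x)) (X.presheaf.stalk x) (algebraMap Γ(Y, V) (Y.presheaf.stalk (f x)) b) • m = _
        rw [← IsScalarTower.algebraMap_apply]
        rfl
    let T := (hV.primeIdealOf ⟨f x, e hxU⟩).asIdeal.primeCompl
    haveI : Module.Flat (Y.presheaf.stalk (f x)) (F.presheaf.stalk x) := hflat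
    haveI : Module.Flat Γ(Y, V) (F.presheaf.stalk x) :=
      (Module.flat_iff_of_isLocalization (Y.presheaf.stalk (f x)) T (F.presheaf.stalk x)).1 inferInstance
    haveI : IsLocalHom (algebraMap (Y.presheaf.stalk (f x)) (X.presheaf.stalk x)) :=
      inferInstanceAs (IsLocalHom (f.stalkMap x).hom)
    have hp : ((IsLocalRing.maximalIdeal (X.presheaf.stalk x)).comap (algebraMap Γ(Y, V) (X.presheaf.stalk x))).map
        (algebraMap Γ(Y, V) (X.presheaf.stalk x)) =
        Ideal.map (f.stalkMap x).hom (IsLocalRing.maximalIdeal ↑(Y.presheaf.stalk (f x))) := by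
      rw [IsScalarTower.algebraMap_eq Γ(Y, V) (Y.presheaf.stalk (f x)) (X.presheaf.stalk x), ← Ideal.comap_comap,
        ← Ideal.map_map, IsLocalization.map_comap T (Y.presheaf.stalk (f x)), IsLocalRing.maximalIdeal_comap]
      rfl
    obtain ⟨hi, hC⟩ := injective_and_flat_coker (R := Γ(Y, V)) hS (stalkLinearMap u x) (by rw [hp]; exact h)
    letI : Module (Y.presheaf.stalk (f x)) (F.presheaf.stalk x ⧸ LinearMap.range (stalkLinearMap u x)) :=
      Module.compHom _ (f.stalkMap x).hom
    haveI : IsScalarTower Γ(Y, V) (Y.presheaf.stalk (f x)) (F.presheaf.stalk x ⧸ LinearMap.range (stalkLinearMap u x)) :=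
      IsScalarTower.of_algebraMap_smul fun b m => by
        obtain ⟨m, rfl⟩ := Submodule.Quotient.mk_surjective _ m
        exact congrArg Submodule.Quotient.mk (algebraMap_smul (Y.presheaf.stalk (f x)) b m)
    exact ⟨hi, (Module.flat_iff_of_isLocalization (Y.presheaf.stalk (f x)) T _).2 hC⟩

/-- **Openness** (EGA IV 11.3.8). -/
theorem isOpen_injective_flat (f : X ⟶ Y) [LocallyOfFinitePresentation f] {F F' : X.Modules} [F.IsQuasicoherent]
    [F'.IsQuasicoherent] (hF : F.IsFinitePresentation) (hF' : F'.IsFinitePresentation) (u : F' ⟶ F)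
    [(cokernel u).IsQuasicoherent] (hC : (cokernel u).IsFinitePresentation) :
    IsOpen {x : X | Function.Injective (stalkLinearMap u x) ∧ FlatMod.IsFlatOverAt f (cokernel u) x} := by
  classical
  refine isOpen_iff_forall_mem_open.mpr fun x ⟨hinj, hx⟩ => ?_
  have hW := isOpen_flatLocus_sheaf f (cokernel u) hC
  obtain ⟨_, ⟨V, hV, rfl⟩, hxV, -⟩ := Y.isBasis_affineOpens.exists_subset_of_mem_open (Set.mem_univ (f x)) isOpen_univ
  obtain ⟨_, ⟨U, hU, rfl⟩, hxU, hsub⟩ := X.isBasis_affineOpens.exists_subset_of_mem_open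
    (⟨hxV, hx⟩ : x ∈ (f ⁻¹ᵁ V : Set X) ∩ {x | FlatMod.IsFlatOverAt f (cokernel u) x}) ((f ⁻¹ᵁ V).2.inter hW)
  have e : U ≤ f ⁻¹ᵁ V := fun y hy => (hsub hy).1
  haveI := finitePresentation_kernel_sections f hF hC (cokernel.π u) hV hU e fun y hy => (hsub hy).2
  let uU : Γ(F', U) →ₗ[Γ(X, U)] LinearMap.ker (appLinearMap (cokernel.π u) U) :=
    (appLinearMap u U).codRestrict _ fun s => by
      show (cokernel.π u).app U (u.app U s) = 0
      rw [← CategoryTheory.comp_apply, ← Scheme.Modules.Hom.comp_app, cokernel.condition]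
      rfl
  have hsurj : Function.Surjective uU := by
    intro s
    haveI := isQuasicoherent_kernel (cokernel.π u)
    obtain ⟨c, hc⟩ := (exists_kernel_app_eq (cokernel.π u) U s.1).1 s.2
    obtain ⟨d, hd⟩ := app_surjective_of_epi (Abelian.factorThruImage u) hU c
    refine ⟨d, Subtype.ext ?_⟩
    show u.app U d = s.1
    rw [← hc, ← hd, ← CategoryTheory.comp_apply, ← Scheme.Modules.Hom.comp_app]
    exact congrArg (fun q : F' ⟶ F => q.app U d) (Abelian.image.fac u).symm
  haveI := finitePresentation_sections (M := F') hF' hU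
  obtain ⟨G, hG⟩ := Module.FinitePresentation.fg_ker uU hsurj
  have hker : ∀ s, s ∈ LinearMap.ker uU ↔ u.app U s = 0 := fun s => by
    rw [LinearMap.mem_ker, Subtype.ext_iff]; rfl
  have hg : ∀ g : G, ∃ a : Γ(X, U), x ∈ X.basicOpen a ∧ a • (g : Γ(F', U)) = 0 := fun g => by
    rw [← germ_eq_zero_iff hU x hxU]
    refine hinj ?_
    rw [map_zero, stalkLinearMap_apply, stalkHom_germ, (hker g).1 (hG ▸ Submodule.subset_span g.2), map_zero]
  choose a hxa hag using hg
  let b := ∏ g, a g
  have hxb : x ∈ X.basicOpen b := by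
    rw [X.mem_basicOpen b x hxU, map_prod]
    exact IsUnit.prod_iff.2 fun g _ => (X.mem_basicOpen (a g) x hxU).1 (hxa g)
  have hkill : ∀ s, u.app U s = 0 → b • s = 0 := fun s hs => by
    have hs' : s ∈ Submodule.span Γ(X, U) (G : Set Γ(F', U)) := hG.symm ▸ (hker s).2 hs
    clear hs
    induction hs' using Submodule.span_induction with
    | mem g hg =>
      rw [show b = (∏ i ∈ Finset.univ.erase (⟨g, hg⟩ : G), a i) * a ⟨g, hg⟩ from
        (Finset.prod_erase_mul _ _ (Finset.mem_univ _)).symm, mul_smul, hag ⟨g, hg⟩, smul_zero]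
    | zero => exact smul_zero _
    | add c d _ _ hc hd => rw [smul_add, hc, hd, add_zero]
    | smul c d _ hd => rw [smul_comm, hd, smul_zero]
  refine ⟨X.basicOpen b, fun y hy => ?_, (X.basicOpen b).2, hxb⟩
  have hyU : y ∈ U := X.basicOpen_le b hy
  refine ⟨(injective_iff_map_eq_zero _).2 fun m hm => ?_, (hsub hyU).2⟩
  obtain ⟨c, s, hyc, hcs⟩ := exists_smul_eq_germ hU y hyU m
  have h0 : F.presheaf.germ U y hyU (u.app U s) = 0 := by
    rw [← stalkHom_germ, ← stalkLinearMap_apply, ← hcs, map_smul, hm, smul_zero]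
  obtain ⟨d, hyd, hd⟩ := (germ_eq_zero_iff hU y hyU _).1 h0
  rw [← Scheme.Modules.Hom.app_smul] at hd
  have h1 : F'.presheaf.germ U y hyU s = 0 := (germ_eq_zero_iff hU y hyU s).2 ⟨b * d, by
    rw [X.basicOpen_mul]; exact ⟨hy, hyd⟩, by rw [mul_smul, hkill _ hd]⟩
  rw [h1] at hcs
  exact ((X.mem_basicOpen c y hyU).mp hyc).smul_eq_zero.mp hcs

end Groth.FlatDescent.LocalFP
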