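import Mathlib
import Groth.Agent.FlatDescent.LocalFP.Main
import Groth.Prelude.Def_FlatCA

/-!
# Base change along flat algebras covering associated points

`exists_smul_eq_zero_of_flat`: if `1 ⊗ z = 0` in a flat base change, `z` is killed outside every prime in the image.
`exists_comap_of_fiber`: primes of the fibre ring are extended from their contraction.
-/

universe u

open TensorProduct

namespace Groth.FlatDescent.LocalFP

theorem exists_smul_eq_zero_of_flat {S S' W : Type u} [CommRing S] [CommRing S'] [Algebra S S'] [Module.Flat S S']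
    [AddCommGroup W] [Module S W] (z : W) (hz : (1 : S') ⊗ₜ[S] z = 0) (q' : Ideal S') [q'.IsPrime] :
    ∃ s : S, s ∉ q'.comap (algebraMap S S') ∧ s • z = 0 := by
  let μ : S →ₗ[S] W := LinearMap.toSpanSingleton S W z
  obtain ⟨v, hv⟩ : (1 : S') ⊗ₜ[S] (1 : S) ∈ LinearMap.range ((LinearMap.ker μ).subtype.lTensor S') :=
    (Module.Flat.lTensor_exact S' (LinearMap.exact_subtype_ker_map μ) _).mp (by simp [μ, hz])
  by_contra hno
  push Not at hno
  have hle : ∀ j : LinearMap.ker μ, algebraMap S S' j ∈ q' := fun j => by_contra fun hj => hno j hj j.2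
  have h1 : TensorProduct.rid S S' ((LinearMap.ker μ).subtype.lTensor S' v) ∈ q' := by
    clear hv
    induction v with
    | zero => simp
    | add a b ha hb => rw [map_add, map_add]; exact add_mem ha hb
    | tmul r j =>
      rw [LinearMap.lTensor_tmul, TensorProduct.rid_tmul, Algebra.smul_def]
      exact q'.mul_mem_right _ (hle j)
  rw [hv, TensorProduct.rid_tmul, one_smul] at h1
  exact (‹q'.IsPrime›).ne_top ((Ideal.eq_top_iff_one _).2 h1)

theorem exists_comap_of_fiber {R S : Type u} [CommRing R] [CommRing S] [Algebra R S] (p : Ideal R) [p.IsPrime]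
    (P : Ideal (p.Fiber S)) [P.IsPrime] :
    let q := P.comap (Algebra.TensorProduct.includeRight (R := R) (A := p.ResidueField) (B := S)).toRingHom
    q.comap (algebraMap R S) = p ∧ FlatCA.fiberIdeal p q = P := by
  intro q
  refine ⟨?_, le_antisymm Ideal.map_comap_le fun x hx => ?_⟩
  · rw [Ideal.comap_comap, show (Algebra.TensorProduct.includeRight (R := R) (A := p.ResidueField) (B := S)).toRingHom.comp
      (algebraMap R S) = algebraMap R (p.Fiber S) from
        (Algebra.TensorProduct.includeRight (R := R) (A := p.ResidueField) (B := S)).comp_algebraMap]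
    exact (Ideal.over_def P p).symm
  · obtain ⟨r, hr, s, hs⟩ := Ideal.Fiber.exists_smul_eq_one_tmul p x
    have hsq : s ∈ q := by
      show (1 : p.ResidueField) ⊗ₜ[R] s ∈ P
      rw [← hs, Algebra.smul_def]
      exact P.mul_mem_left _ hx
    have hu : IsUnit (algebraMap R (p.Fiber S) r) := by
      rw [IsScalarTower.algebraMap_apply R p.ResidueField (p.Fiber S)]
      exact (Ne.isUnit (fun h => hr (Ideal.algebraMap_residueField_eq_zero.1 h))).map _
    have hmem : (1 : p.ResidueField) ⊗ₜ[R] s ∈ FlatCA.fiberIdeal p q := Ideal.mem_map_of_mem _ hsq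
    rw [← hs, Algebra.smul_def] at hmem
    exact (Ideal.unit_mul_mem_iff_mem _ hu).1 hmem

end Groth.FlatDescent.LocalFP
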