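import Mathlib
import Groth.Agent.FlatDescent.LocalFP.Cover

/-!
# Maps to completions (universal injectivity)
-/

universe u

open TensorProduct

namespace Groth.FlatDescent.LocalFP

variable {R S : Type u} [CommRing R] [CommRing S] [Algebra R S] [IsNoetherianRing S]

/-- Elements dying in the completion are fixed by an element of `IS`. -/
theorem exists_smul_eq_self_of_completion (I : Ideal R) {N : Type u} [AddCommGroup N] [Module S N] [Module R N]
    [IsScalarTower R S N] [Module.Finite S N] {Q : Type u} [AddCommGroup Q] [Module R Q] [Module.Finite R Q]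
    (z : N ⊗[R] Q) (hz : (AdicCompletion.of I N).rTensor Q z = 0) :
    ∃ r ∈ I.map (algebraMap R S), r • z = z := by
  haveI : Module.Finite S (N ⊗[R] Q) := by
    obtain ⟨k, f, hf⟩ := Module.Finite.exists_fin' R Q
    haveI : Module.Finite S (N ⊗[R] (Fin k → R)) := Module.Finite.equiv (TensorProduct.piScalarRight R S N (Fin k)).symm
    exact Module.Finite.of_surjective (AlgebraTensorModule.lTensor S N f) (LinearMap.lTensor_surjective N hf)
  have hmem : z ∈ (⨅ n : ℕ, (I.map (algebraMap R S)) ^ n • ⊤ : Submodule S (N ⊗[R] Q)) := by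
    rw [Submodule.mem_iInf]
    intro n
    have h1 : (I ^ n • ⊤ : Submodule R N).mkQ.rTensor Q z = 0 := by
      rw [← AdicCompletion.eval_comp_of I N n, LinearMap.rTensor_comp, LinearMap.comp_apply, hz, map_zero]
    obtain ⟨v, rfl⟩ := (rTensor_exact Q (LinearMap.exact_subtype_mkQ (I ^ n • ⊤ : Submodule R N))
      (Submodule.mkQ_surjective _) z).1 h1
    rw [← Ideal.map_pow]
    clear h1 hz
    induction v with
    | zero => simp
    | add a b ha hb => rw [map_add]; exact add_mem ha hb
    | tmul m q =>
      rw [LinearMap.rTensor_tmul]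
      refine Submodule.smul_induction_on (p := fun m => m ⊗ₜ[R] q ∈
        (I ^ n).map (algebraMap R S) • (⊤ : Submodule S (N ⊗[R] Q))) m.2 (fun a ha x _ => ?_)
        (fun a b ha hb => by rw [add_tmul]; exact add_mem ha hb)
      rw [← algebraMap_smul S a x, ← TensorProduct.smul_tmul']
      exact Submodule.smul_mem_smul (Ideal.mem_map_of_mem _ ha) trivial
  obtain ⟨r, hr⟩ := (Ideal.mem_iInf_smul_pow_eq_bot_iff _ z).1 hmem
  exact ⟨r, r.2, hr⟩

/-- An element avoiding the associated points of the fibres of a flat module acts injectively on base changes. -/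
theorem eq_zero_of_smul_of_fibres [IsNoetherianRing R] {N : Type u} [AddCommGroup N] [Module S N] [Module R N]
    [IsScalarTower R S N] [Module.Finite S N] [Module.Flat R N] (c : S)
    (h : ∀ (p : Ideal R) (q : Ideal S) [p.IsPrime] [q.IsPrime] [q.LiesOver p],
      FlatCA.fiberIdeal p q ∈ associatedPrimes (p.Fiber S) (FlatCA.fiberMod p S N) → c ∉ q)
    (Q : Type u) [AddCommGroup Q] [Module R Q] [Module.Finite R Q] : ∀ w : N ⊗[R] Q, c • w = 0 → w = 0 := by
  induction ‹Module.Finite R Q› using IsNoetherianRing.induction_on_isQuotientEquivQuotientPrime R with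
  | subsingleton Q =>
    intro w _
    have h0 : ∀ v : N ⊗[R] Q, v = 0 := fun v => by
      induction v with
      | zero => rfl
      | tmul a b => rw [Subsingleton.elim b 0, tmul_zero]
      | add a b ha hb => rw [ha, hb, add_zero]
    exact h0 w
  | quotient Q p e =>
    intro w hw
    haveI := p.2
    letI : Algebra S (p.1.Fiber S) := Algebra.TensorProduct.rightAlgebra
    let C := p.1.Fiber S
    haveI : IsNoetherianRing C := isNoetherianRing_of_ringEquiv _ (Ideal.Fiber.algEquivQuotient p.1).symm.toRingEquiv
    let φ : (R ⧸ p.1) →ₗ[R] p.1.ResidueField := (IsScalarTower.toAlgHom R (R ⧸ p.1) p.1.ResidueField).toLinearMap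
    have hφ : Function.Injective (φ ∘ₗ e.toLinearMap) :=
      (IsFractionRing.injective (R ⧸ p.1) p.1.ResidueField).comp e.injective
    have hinj := Module.Flat.lTensor_preserves_injective_linearMap (M := N) _ hφ
    refine hinj ?_
    rw [map_zero]
    let eV : N ⊗[R] p.1.ResidueField ≃ₗ[S] FlatCA.fiberMod p.1 S N :=
      (AlgebraTensorModule.cancelBaseChange R S S N p.1.ResidueField).symm ≪≫ₗ
        TensorProduct.congr (LinearEquiv.refl S N) (Algebra.TensorProduct.commRight R S p.1.ResidueField).toLinearEquiv ≪≫ₗ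
        TensorProduct.comm S N (p.1.Fiber S)
    haveI : IsScalarTower S C (FlatCA.fiberMod p.1 S N) := inferInstanceAs (IsScalarTower S C (C ⊗[S] N))
    haveI : Module.Finite C (FlatCA.fiberMod p.1 S N) := inferInstanceAs (Module.Finite C (C ⊗[S] N))
    by_contra hne
    have hne' : eV (AlgebraTensorModule.lTensor S N (φ ∘ₗ e.toLinearMap) w) ≠ 0 :=
      fun h0 => hne (eV.map_eq_zero_iff.1 h0)
    obtain ⟨P, hP, hle⟩ := exists_le_isAssociatedPrime_of_isNoetherianRing C _ hne'
    haveI : P.IsPrime := hP.isPrime
    obtain ⟨hqp, hmap⟩ := exists_comap_of_fiber p.1 P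
    haveI : Ideal.LiesOver (P.comap (Algebra.TensorProduct.includeRight (R := R) (A := p.1.ResidueField) (B := S)).toRingHom) p.1 :=
      ⟨hqp.symm⟩
    refine h p.1 _ (by rw [hmap]; exact hP) (hle (Submodule.mem_colon_singleton.2 ?_))
    rw [Submodule.mem_bot]
    show algebraMap S C c • _ = 0
    rw [algebraMap_smul, ← map_smul, ← map_smul, hw, map_zero, map_zero]
  | exact Q₁ Q₂ Q₃ f g hf hg hfg h₁ h₃ =>
    intro w hw
    have h2 : AlgebraTensorModule.lTensor S N g w = 0 := h₃ _ (by rw [← map_smul, hw, map_zero])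
    obtain ⟨v, hv⟩ := (lTensor_exact N hfg hg w).1 h2
    have hinj : Function.Injective (f.lTensor N) := Module.Flat.lTensor_preserves_injective_linearMap f hf
    have hv' : AlgebraTensorModule.lTensor S N f v = w := hv
    have hcv : c • v = 0 := hinj (by
      show AlgebraTensorModule.lTensor S N f (c • v) = f.lTensor N 0
      rw [map_smul, hv', hw, map_zero])
    rw [← hv', h₁ v hcv, map_zero]

end Groth.FlatDescent.LocalFP
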