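import Mathlib
import Groth.Agent.FlatDescent.LocalFP.Cover

/-!
# The fibre module at the maximal ideal; regular elements on the closed fibre

`fibre_one_tmul_eq_zero_iff`: `1 ⊗ x = 0` in the closed fibre module iff `x ∈ mN`.
`fibre_regular`: an element regular on the closed fibre of a flat module gives an injective map modulo `m`.
-/

universe u

open TensorProduct

namespace Groth.FlatDescent.LocalFP

theorem mem_smul_of_one_tmul_eq_zero {R X N : Type u} [CommRing R] [AddCommGroup X] [Module R X] [AddCommGroup N]
    [Module R N] (f : R →ₗ[R] X) (hf : Function.Surjective f) (m : Ideal R) (hker : LinearMap.ker f ≤ m) (x : N)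
    (hx : f 1 ⊗ₜ[R] x = 0) : x ∈ m • (⊤ : Submodule R N) := by
  obtain ⟨v, hv⟩ := (rTensor_exact N (LinearMap.exact_subtype_ker_map f) hf (1 ⊗ₜ[R] x)).1 (by simpa using hx)
  have h1 : TensorProduct.lid R N ((LinearMap.ker f).subtype.rTensor N v) ∈ m • (⊤ : Submodule R N) := by
    clear hv
    induction v with
    | zero => simp
    | add a b ha hb => rw [map_add, map_add]; exact add_mem ha hb
    | tmul r y =>
      rw [LinearMap.rTensor_tmul, TensorProduct.lid_tmul]
      exact Submodule.smul_mem_smul (hker r.2) trivial
  rw [hv, TensorProduct.lid_tmul, one_smul] at h1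
  exact h1

variable {R S : Type u} [CommRing R] [IsLocalRing R] [CommRing S] [Algebra R S]

theorem residueField_surjective : Function.Surjective (algebraMap R (IsLocalRing.maximalIdeal R).ResidueField) := by
  intro x
  obtain ⟨y, rfl⟩ := (Ideal.bijective_algebraMap_quotient_residueField (IsLocalRing.maximalIdeal R)).2 x
  obtain ⟨r, rfl⟩ := Ideal.Quotient.mk_surjective y
  exact ⟨r, rfl⟩

attribute [local instance] Algebra.TensorProduct.rightAlgebra

theorem fibre_surjective : Function.Surjective (algebraMap S ((IsLocalRing.maximalIdeal R).Fiber S)) :=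
  TensorProduct.mk_surjective R S _ residueField_surjective

theorem fibre_ker_le : RingHom.ker (algebraMap S ((IsLocalRing.maximalIdeal R).Fiber S)) ≤
    (IsLocalRing.maximalIdeal R).map (algebraMap R S) := by
  intro s hs
  have h1 := mem_smul_of_one_tmul_eq_zero (Algebra.linearMap R (IsLocalRing.maximalIdeal R).ResidueField)
    residueField_surjective (IsLocalRing.maximalIdeal R) (fun r hr => Ideal.algebraMap_residueField_eq_zero.1 hr) s
    (by rw [Algebra.linearMap_apply, map_one]; exact hs)
  rw [Ideal.smul_top_eq_map, Submodule.restrictScalars_mem] at h1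
  exact h1

theorem fibre_one_tmul_eq_zero_iff {N : Type u} [AddCommGroup N] [Module S N] (x : N) :
    (1 : (IsLocalRing.maximalIdeal R).Fiber S) ⊗ₜ[S] x = 0 ↔
      x ∈ (IsLocalRing.maximalIdeal R).map (algebraMap R S) • (⊤ : Submodule S N) := by
  constructor
  · intro hx
    exact mem_smul_of_one_tmul_eq_zero (Algebra.linearMap S ((IsLocalRing.maximalIdeal R).Fiber S)) fibre_surjective _
      fibre_ker_le x (by rw [Algebra.linearMap_apply, map_one]; exact hx)
  · intro hx
    refine Submodule.smul_induction_on hx (fun r hr y _ => ?_) (fun a b ha hb => by rw [tmul_add, ha, hb, add_zero])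
    rw [← smul_tmul, ← Algebra.algebraMap_eq_smul_one]
    have h0 : algebraMap S ((IsLocalRing.maximalIdeal R).Fiber S) r = 0 := by
      induction hr using Submodule.span_induction with
      | mem r hr =>
        obtain ⟨a, ha, rfl⟩ := hr
        show (1 : (IsLocalRing.maximalIdeal R).ResidueField) ⊗ₜ[R] algebraMap R S a = 0
        rw [Algebra.algebraMap_eq_smul_one, ← smul_tmul, ← Algebra.algebraMap_eq_smul_one,
          Ideal.algebraMap_residueField_eq_zero.2 ha, zero_tmul]
      | zero => exact map_zero _
      | add a b _ _ ha hb => rw [map_add, ha, hb, add_zero]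
      | smul c a _ ha => rw [smul_eq_mul, map_mul, ha, mul_zero]
    rw [h0, zero_tmul]

theorem fibre_regular [IsLocalRing S] [IsLocalHom (algebraMap R S)] {N : Type u} [AddCommGroup N] [Module S N]
    [Module R N] [IsScalarTower R S N] {s : S} (hs : s ∈ FlatCA.nzdFiber R S N) (x : N)
    (hx : s • x ∈ ((IsLocalRing.maximalIdeal S).comap (algebraMap R S)).map (algebraMap R S) • (⊤ : Submodule S N)) :
    x ∈ ((IsLocalRing.maximalIdeal S).comap (algebraMap R S)).map (algebraMap R S) • (⊤ : Submodule S N) := by
  rw [IsLocalRing.maximalIdeal_comap] at hx ⊢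
  rw [← fibre_one_tmul_eq_zero_iff] at hx ⊢
  rw [tmul_smul] at hx
  exact hs _ hx

theorem univInj_regular [IsLocalRing S] [IsLocalHom (algebraMap R S)] (hS : FlatCA.EssFinitePresentation R S)
    {N : Type u} [AddCommGroup N] [Module S N] [Module R N] [IsScalarTower R S N] [Module.FinitePresentation S N]
    [Module.Flat R N] {s : S} (hs : s ∈ FlatCA.nzdFiber R S N) (Q : Type u) [AddCommGroup Q] [Module R Q] :
    Function.Injective (((LinearMap.lsmul S N s).restrictScalars R).lTensor Q) :=
  univInj hS (LinearMap.lsmul S N s) (fun x hx => fibre_regular hs x hx) Q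

/-- Elements killed by a regular element of the closed fibre vanish. -/
theorem eq_zero_of_regular_smul [IsLocalRing S] [IsLocalHom (algebraMap R S)] (hS : FlatCA.EssFinitePresentation R S)
    {N : Type u} [AddCommGroup N] [Module S N] [Module R N] [IsScalarTower R S N] [Module.FinitePresentation S N]
    [Module.Flat R N] {Q : Type u} [AddCommGroup Q] [Module R Q] {s : S} (hs : s ∈ FlatCA.nzdFiber R S N)
    (z : N ⊗[R] Q) (hz : s • z = 0) : z = 0 := by
  have h2 : ∀ z : N ⊗[R] Q, ((LinearMap.lsmul S N s).restrictScalars R).rTensor Q z = s • z := fun z => by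
    induction z with
    | zero => simp
    | add a b ha hb => rw [map_add, smul_add, ha, hb]
    | tmul n q => rfl
  have hinj := (LinearMap.lTensor_inj_iff_rTensor_inj Q _).1 (univInj_regular hS hs Q)
  exact hinj ((h2 z).trans (hz.trans (map_zero _).symm))

end Groth.FlatDescent.LocalFP
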