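import Mathlib
import Groth.Agent.FlatDescent.UnivInjFib.Local

/-!
# Maps out of projective modules, injective modulo every maximal ideal; content ideals
-/

universe u

open TensorProduct

namespace Groth.FlatDescent.LocalFP

theorem injective_rTensor_of_free_global {R P M Q : Type u} [CommRing R] [AddCommGroup P] [Module R P]
    [Module.Free R P] [AddCommGroup M] [Module R M] [Module.Flat R M] [AddCommGroup Q] [Module R Q] (u : P →ₗ[R] M)
    (h : ∀ (m : Ideal R), m.IsMaximal → Function.Injective (u.rTensor (R ⧸ m))) : Function.Injective (u.rTensor Q) := by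
  classical
  refine (injective_iff_map_eq_zero _).2 fun z hz => ?_
  let b := Module.Free.chooseBasis R P
  set q := TensorProduct.equivFinsuppOfBasisLeft b (N := Q) z with hq
  let s := q.support
  have hz' : z = ∑ i ∈ s, b i ⊗ₜ q i := by
    apply (TensorProduct.equivFinsuppOfBasisLeft b (N := Q)).injective
    rw [map_sum, ← hq]
    simp only [TensorProduct.equivFinsuppOfBasisLeft_apply_tmul, Module.Basis.repr_self,
      Finsupp.mapRange_single, one_smul]
    exact (Finsupp.sum_single q).symm
  let f : (s → R) →ₗ[R] Q := Fintype.linearCombination R fun i => q i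
  let w : P ⊗[R] (s → R) := ∑ i : s, b i ⊗ₜ Pi.single i 1
  have hw : f.lTensor P w = z := by
    rw [map_sum, hz', ← Finset.sum_coe_sort s]
    exact Finset.sum_congr rfl fun i _ => by simp [f, Fintype.linearCombination_apply_single]
  have huw : f.lTensor M (u.rTensor (s → R) w) = 0 := by
    rw [← LinearMap.comp_apply, LinearMap.lTensor_comp_rTensor, ← LinearMap.rTensor_comp_lTensor, LinearMap.comp_apply,
      hw, hz]
  obtain ⟨y, hy⟩ := (Module.Flat.lTensor_exact (M := M) (LinearMap.exact_subtype_ker_map f) _).1 huw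
  suffices hK : LinearMap.ker f = ⊤ by
    rw [← hw, show f = 0 from LinearMap.ker_eq_top.1 hK, LinearMap.lTensor_zero, LinearMap.zero_apply]
  by_contra hne
  obtain h' | ⟨N, hN, hle⟩ := IsCoatomic.eq_top_or_exists_le_coatom (LinearMap.ker f)
  · exact hne h'
  obtain ⟨I, hI, ⟨e⟩⟩ := isSimpleModule_iff_quot_maximal.1 (isSimpleModule_iff_isCoatom.2 hN)
  let χ : (s → R) →ₗ[R] R ⧸ I := e.toLinearMap.comp N.mkQ
  have hχ : χ.comp (LinearMap.ker f).subtype = 0 := by
    ext x
    show e (N.mkQ x.1) = 0
    rw [Submodule.mkQ_apply, (Submodule.Quotient.mk_eq_zero N).2 (hle x.2), map_zero]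
  have h0 : χ.lTensor P w = 0 := h I hI (by
    rw [map_zero, ← LinearMap.comp_apply, LinearMap.rTensor_comp_lTensor, ← LinearMap.lTensor_comp_rTensor,
      LinearMap.comp_apply, ← hy, ← LinearMap.comp_apply, ← LinearMap.lTensor_comp, hχ, LinearMap.lTensor_zero,
      LinearMap.zero_apply])
  have hχ0 : ∀ i : s, χ (Pi.single i 1) = 0 := fun i => by
    have h1 := DFunLike.congr_fun (congrArg (TensorProduct.equivFinsuppOfBasisLeft b (N := R ⧸ I)) h0) i.1
    simp only [w, map_sum, map_zero, LinearMap.lTensor_tmul, TensorProduct.equivFinsuppOfBasisLeft_apply_tmul,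
      Module.Basis.repr_self, Finsupp.mapRange_single, one_smul, Finsupp.coe_finsetSum, Finset.sum_apply,
      Finsupp.coe_zero, Pi.zero_apply] at h1
    rw [Finset.sum_eq_single i (fun j _ hj => Finsupp.single_eq_of_ne (fun hh => hj (Subtype.ext hh.symm)))
      (fun hn => absurd (Finset.mem_univ i) hn), Finsupp.single_eq_same] at h1
    exact h1
  have hχz : χ = 0 := (Pi.basisFun R s).ext fun i => by rw [Pi.basisFun_apply, hχ0, LinearMap.zero_apply]
  refine hN.1 (eq_top_iff.2 fun v _ => ?_)
  have hv : e (N.mkQ v) = 0 := LinearMap.congr_fun hχz v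
  exact (Submodule.Quotient.mk_eq_zero N).1 (e.map_eq_zero_iff.1 hv)

theorem flat_prod {R M F : Type u} [CommRing R] [AddCommGroup M] [Module R M] [Module.Flat R M] [AddCommGroup F]
    [Module R F] [Module.Flat R F] : Module.Flat R (M × F) := by
  refine Module.Flat.iff_lTensor_preserves_injective_linearMap.2 fun X Y _ _ _ _ f hf => ?_
  have hc : ∀ w, TensorProduct.prodLeft R R M F Y (f.lTensor (M × F) w) =
      ((f.lTensor M (TensorProduct.prodLeft R R M F X w).1), (f.lTensor F (TensorProduct.prodLeft R R M F X w).2)) :=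
    fun w => by
    induction w with
    | zero => simp only [map_zero, Prod.fst_zero, Prod.snd_zero, Prod.mk_zero_zero]
    | add a b ha hb => simp only [map_add, ha, hb, Prod.fst_add, Prod.snd_add, Prod.mk_add_mk]
    | tmul a x =>
      obtain ⟨m, g⟩ := a
      simp [TensorProduct.prodLeft_tmul]
  intro a b hab
  have h' := congrArg (TensorProduct.prodLeft R R M F Y) hab
  rw [hc, hc, Prod.mk.injEq] at h'
  refine (TensorProduct.prodLeft R R M F X).injective (Prod.ext ?_ ?_)
  · exact Module.Flat.lTensor_preserves_injective_linearMap (M := M) f hf h'.1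
  · exact Module.Flat.lTensor_preserves_injective_linearMap (M := F) f hf h'.2

theorem injective_rTensor_of_projective {R P M Q : Type u} [CommRing R] [AddCommGroup P] [Module R P]
    [Module.Projective R P] [AddCommGroup M] [Module R M] [Module.Flat R M] [AddCommGroup Q] [Module R Q]
    (u : P →ₗ[R] M) (h : ∀ (m : Ideal R), m.IsMaximal → Function.Injective (u.rTensor (R ⧸ m))) :
    Function.Injective (u.rTensor Q) := by
  let π : (P →₀ R) →ₗ[R] P := Finsupp.linearCombination R id
  obtain ⟨σ, hσ⟩ := (Module.projective_def'.1 ‹Module.Projective R P›)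
  let v : (P →₀ R) →ₗ[R] M × (P →₀ R) := (u ∘ₗ π).prod (LinearMap.id - σ ∘ₗ π)
  have hsnd : ∀ (W : Type u) [AddCommGroup W] [Module R W] (z : (P →₀ R) ⊗[R] W),
      v.rTensor W z = 0 → u.rTensor W (π.rTensor W z) = 0 ∧ σ.rTensor W (π.rTensor W z) = z := by
    intro W _ _ z hz
    have h1 := congrArg ((LinearMap.fst R M (P →₀ R)).rTensor W) hz
    have h2 := congrArg ((LinearMap.snd R M (P →₀ R)).rTensor W) hz
    rw [map_zero, ← LinearMap.comp_apply, ← LinearMap.rTensor_comp, LinearMap.fst_prod, LinearMap.rTensor_comp] at h1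
    rw [map_zero, ← LinearMap.comp_apply, ← LinearMap.rTensor_comp, LinearMap.snd_prod, LinearMap.rTensor_sub,
      LinearMap.rTensor_id, LinearMap.rTensor_comp] at h2
    replace h2 : z - σ.rTensor W (π.rTensor W z) = 0 := h2
    rw [sub_eq_zero] at h2
    exact ⟨h1, h2.symm⟩
  have hv : ∀ (m : Ideal R), m.IsMaximal → Function.Injective (v.rTensor (R ⧸ m)) := fun m hm => by
    refine (injective_iff_map_eq_zero _).2 fun z hz => ?_
    obtain ⟨h1, h2⟩ := hsnd _ z hz
    rw [← h2, h m hm (h1.trans (map_zero _).symm), map_zero]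
  haveI : Module.Flat R (M × (P →₀ R)) := flat_prod
  have hvQ : Function.Injective (v.rTensor Q) := injective_rTensor_of_free_global v hv
  refine (injective_iff_map_eq_zero _).2 fun z hz => ?_
  have hπσ : π.rTensor Q (σ.rTensor Q z) = z := by
    rw [← LinearMap.comp_apply, ← LinearMap.rTensor_comp, hσ, LinearMap.rTensor_id]; rfl
  have h0 : σ.rTensor Q z = 0 := hvQ (by
    rw [map_zero]
    have : v ∘ₗ σ = (LinearMap.inl R M (P →₀ R)) ∘ₗ u := by
      refine LinearMap.ext fun x => Prod.ext ?_ ?_
      · show u (π (σ x)) = u x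
        rw [show π (σ x) = x from LinearMap.congr_fun hσ x]
      · show σ x - σ (π (σ x)) = 0
        rw [show π (σ x) = x from LinearMap.congr_fun hσ x, sub_self]
    rw [← LinearMap.comp_apply, ← LinearMap.rTensor_comp, this, LinearMap.rTensor_comp, LinearMap.comp_apply, hz,
      map_zero])
  rw [← hπσ, h0, map_zero]

theorem mem_smul_of_univ {R P N : Type u} [CommRing R] [AddCommGroup P] [Module R P] [AddCommGroup N] [Module R N]
    (g : P →ₗ[R] N) (hg : ∀ (Q : Type u) [AddCommGroup Q] [Module R Q], Function.Injective (g.lTensor Q))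
    (J : Ideal R) {y : P} (hy : g y ∈ J • (⊤ : Submodule R N)) : y ∈ J • (⊤ : Submodule R P) := by
  have h1 : ∀ {W : Type u} [AddCommGroup W] [Module R W] (w : W),
      (Ideal.Quotient.mk J 1) ⊗ₜ[R] w = 0 ↔ w ∈ J • (⊤ : Submodule R W) := fun {W} _ _ w => by
    rw [← (TensorProduct.quotTensorEquivQuotSMul W J).map_eq_zero_iff,
      TensorProduct.quotTensorEquivQuotSMul_mk_tmul, one_smul, Submodule.Quotient.mk_eq_zero]
  refine (h1 y).1 (hg (R ⧸ J) ?_)
  rw [map_zero, LinearMap.lTensor_tmul]
  exact (h1 (g y)).2 hy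

/-- Content ideals in projective modules. -/
theorem exists_content {R P : Type u} [CommRing R] [AddCommGroup P] [Module R P] [Module.Projective R P] (y : P) :
    ∃ I : Ideal R, y ∈ I • (⊤ : Submodule R P) ∧ ∀ J : Ideal R, y ∈ J • (⊤ : Submodule R P) → I ≤ J := by
  let π : (P →₀ R) →ₗ[R] P := Finsupp.linearCombination R id
  obtain ⟨σ, hσ⟩ := (Module.projective_def'.1 ‹Module.Projective R P›)
  refine ⟨Ideal.span (Set.range (σ y)), ?_, fun J hJ => Ideal.span_le.2 ?_⟩
  · have hy : π (σ y) = y := LinearMap.congr_fun hσ y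
    have h1 : π (σ y) ∈ Ideal.span (Set.range (σ y)) • (⊤ : Submodule R P) := by
      rw [Finsupp.linearCombination_apply, Finsupp.sum]
      exact Submodule.sum_mem _ fun i _ => Submodule.smul_mem_smul (Ideal.subset_span (Set.mem_range_self i))
        Submodule.mem_top
    exact Eq.subst (motive := fun v => v ∈ Ideal.span (Set.range (σ y)) • (⊤ : Submodule R P)) hy h1
  · rintro _ ⟨i, rfl⟩
    refine Submodule.smul_induction_on (p := fun v => σ v i ∈ J) hJ (fun r hr x _ => ?_) (fun a b ha hb => ?_)
    · rw [map_smul, Finsupp.smul_apply, smul_eq_mul]; exact J.mul_mem_right _ hr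
    · rw [map_add, Finsupp.add_apply]; exact J.add_mem ha hb

end Groth.FlatDescent.LocalFP
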