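import Mathlib
import Groth.Agent.FlatDescent.UnivInjFib.Main

/-!
# Elements supported on a closed subset, fibrewise

A flat finitely presented module without nonzero fibre elements killed by powers of an ideal has none after any base
change (`eq_zero_of_killed`); the hypothesis passes to localised base changes (`fibre_baseChange_away`).
-/

universe u

open TensorProduct

namespace Groth.FlatDescent.LocalFP

/-- No nonzero element of the fibres is killed by powers of all elements of `I`. -/
def FibreFree {A B : Type u} [CommRing A] [CommRing B] [Algebra A B] (I : Ideal B) (N : Type u) [AddCommGroup N]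
    [Module B N] [Module A N] [IsScalarTower A B N] : Prop :=
  ∀ (p : Ideal A) [p.IsPrime] (z : N ⊗[A] p.ResidueField), (∀ g ∈ I, ∃ n : ℕ, g ^ n • z = 0) → z = 0

variable {A B : Type u} [CommRing A] [CommRing B] [Algebra A B]

/-- Finitely many elements suffice on a fibre. -/
theorem exists_finset_fibre [Algebra.FiniteType A B] {I : Ideal B} {N : Type u} [AddCommGroup N] [Module B N]
    [Module A N] [IsScalarTower A B N] (h : FibreFree (A := A) I N) (p : Ideal A) [p.IsPrime] :
    ∃ G : Finset B, (G : Set B) ⊆ I ∧ ∀ (L : Type u) [Field L] [Algebra A L] [Algebra p.ResidueField L]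
      [IsScalarTower A p.ResidueField L] (w : N ⊗[A] L), (∀ g ∈ G, ∃ n : ℕ, g ^ n • w = 0) → w = 0 := by
  classical
  let C := B ⊗[A] p.ResidueField
  haveI : IsNoetherianRing (p.ResidueField ⊗[A] B) := Algebra.FiniteType.isNoetherianRing p.ResidueField _
  haveI : IsNoetherianRing C := isNoetherianRing_of_ringEquiv (p.ResidueField ⊗[A] B)
    (Algebra.TensorProduct.comm A p.ResidueField B).toRingEquiv
  obtain ⟨s, hs, hspan⟩ := Submodule.fg_span_iff_fg_span_finset_subset (algebraMap B C '' (I : Set B)) |>.mp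
    (IsNoetherian.noetherian (Ideal.span (algebraMap B C '' (I : Set B))))
  choose g hg hgs using fun x : s => hs x.2
  refine ⟨Finset.univ.image g, by intro x hx; simp only [Finset.coe_image, Set.mem_image] at hx; obtain ⟨i, -, rfl⟩ := hx; exact hg i,
    fun L _ _ _ _ w hw => ?_⟩
  let eV : N ⊗[A] p.ResidueField ≃ₗ[B] C ⊗[B] N :=
    (AlgebraTensorModule.cancelBaseChange A B B N p.ResidueField).symm ≪≫ₗ TensorProduct.comm B N C
  have hcomp : ∀ v : N ⊗[A] p.ResidueField, (∀ i : s, ∃ n : ℕ, g i ^ n • v = 0) → v = 0 := by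
    intro v hv
    refine h p v fun a ha => ?_
    let J : Ideal C := LinearMap.ker (LinearMap.toSpanSingleton C (C ⊗[B] N) (eV v))
    have hJ : ∀ c : B, (∃ n : ℕ, c ^ n • v = 0) ↔ algebraMap B C c ∈ J.radical := fun c => by
      constructor <;> rintro ⟨n, hn⟩ <;> refine ⟨n, ?_⟩
      · show algebraMap B C c ^ n • eV v = 0
        rw [← map_pow, algebraMap_smul, ← map_smul, hn, map_zero]
      · have hn' : algebraMap B C c ^ n • eV v = 0 := hn
        rw [← map_pow, algebraMap_smul, ← map_smul, LinearEquiv.map_eq_zero_iff] at hn'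
        exact hn'
    refine (hJ a).2 ?_
    have hle : Ideal.span (algebraMap B C '' (I : Set B)) ≤ J.radical := by
      rw [show Ideal.span (algebraMap B C '' (I : Set B)) = Ideal.span (s : Set C) from hspan]
      refine Ideal.span_le.2 fun y hy => ?_
      have := (hJ _).1 (hv ⟨y, hy⟩)
      rw [hgs ⟨y, hy⟩] at this
      exact this
    exact hle (Ideal.subset_span ⟨a, ha, rfl⟩)
  let b := Module.Free.chooseBasis p.ResidueField L
  let ψ : Module.Free.ChooseBasisIndex p.ResidueField L → (L →ₗ[A] p.ResidueField) :=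
    fun i => (b.coord i).restrictScalars A
  let θ : Module.Free.ChooseBasisIndex p.ResidueField L → (p.ResidueField →ₗ[A] L) :=
    fun i => (LinearMap.toSpanSingleton p.ResidueField L (b i)).restrictScalars A
  have h0 : ∀ i, AlgebraTensorModule.lTensor B N (ψ i) w = 0 := fun i => hcomp _ fun j => by
    obtain ⟨n, hn⟩ := hw (g j) (Finset.mem_image.2 ⟨j, Finset.mem_univ _, rfl⟩)
    exact ⟨n, by rw [← map_smul, hn, map_zero]⟩
  have hrec : ∀ w : N ⊗[A] L, ∃ S : Finset (Module.Free.ChooseBasisIndex p.ResidueField L), ∀ S' ⊇ S,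
      ∑ i ∈ S', (θ i).lTensor N (AlgebraTensorModule.lTensor B N (ψ i) w) = w := fun w => by
    induction w with
    | zero => exact ⟨∅, fun S' _ => by simp⟩
    | add x y hx hy =>
      obtain ⟨S, hS⟩ := hx
      obtain ⟨T, hT⟩ := hy
      exact ⟨S ∪ T, fun S' h' => by
        simp only [map_add, Finset.sum_add_distrib, hS S' (Finset.union_subset_left h'),
          hT S' (Finset.union_subset_right h')]⟩
    | tmul m l =>
      refine ⟨(b.repr l).support, fun S' h' => ?_⟩
      conv_rhs => rw [← b.linearCombination_repr l, Finsupp.linearCombination_apply, Finsupp.sum, tmul_sum]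
      rw [Finset.sum_subset h' (fun i _ hi => by rw [Finsupp.notMem_support_iff.1 hi, zero_smul, tmul_zero])]
      exact Finset.sum_congr rfl fun i _ => rfl
  obtain ⟨S, hS⟩ := hrec w
  rw [← hS S subset_rfl]
  exact Finset.sum_eq_zero fun i _ => by rw [h0 i, map_zero]

/-- The product of the localisations at finitely many elements. -/
theorem rTensor_pi_eq_zero_iff {N : Type u} [AddCommGroup N] [Module B N] [Module A N] [IsScalarTower A B N]
    (G : Finset B) (W : Type u) [AddCommGroup W] [Module A W] (x : N ⊗[A] W) :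
    (LinearMap.pi fun g : G => (LocalizedModule.mkLinearMap (Submonoid.powers (g : B)) N).restrictScalars A).rTensor W x = 0
      ↔ ∀ g ∈ G, ∃ n : ℕ, g ^ n • x = 0 := by
  classical
  let M : G → Type u := fun g => LocalizedModule (Submonoid.powers (g : B)) N
  let mk : ∀ g : G, N →ₗ[B] M g := fun g => LocalizedModule.mkLinearMap (Submonoid.powers (g : B)) N
  let e : ((g : G) → M g) ⊗[A] W ≃ₗ[A] ((g : G) → W ⊗[A] M g) :=
    TensorProduct.comm A _ W ≪≫ₗ TensorProduct.piRight A A W M
  let u : N →ₗ[A] (g : G) → M g := LinearMap.pi fun g => (mk g).restrictScalars A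
  have he : ∀ (x : N ⊗[A] W) (g : G), e (u.rTensor W x) g =
      TensorProduct.comm A _ W (AlgebraTensorModule.rTensor A W (mk g) x) := fun x g => by
    induction x with
    | zero => simp
    | add a b ha hb => simp only [map_add, Pi.add_apply, ha, hb]
    | tmul n w => simp [e, u]
  have key : ∀ g : G, AlgebraTensorModule.rTensor A W (mk g) x = 0 ↔ ∃ n : ℕ, (g : B) ^ n • x = 0 := fun g => by
    haveI : IsLocalizedModule (Submonoid.powers (g : B)) (AlgebraTensorModule.rTensor A W (mk g)) := inferInstance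
    rw [IsLocalizedModule.eq_zero_iff (Submonoid.powers (g : B))]
    constructor
    · rintro ⟨⟨c, n, rfl⟩, hc⟩
      exact ⟨n, hc⟩
    · rintro ⟨n, hn⟩
      exact ⟨⟨_, n, rfl⟩, hn⟩
  show u.rTensor W x = 0 ↔ _
  constructor
  · intro h g hg
    refine (key ⟨g, hg⟩).1 ((TensorProduct.comm A _ W).injective ?_)
    rw [← he, h, map_zero, map_zero]
    rfl
  · intro h
    refine e.injective (funext fun g => ?_)
    rw [he, (key g).2 (h g g.2), map_zero, map_zero]
    rfl

theorem flat_localized_powers {N : Type u} [AddCommGroup N] [Module B N] [Module A N] [IsScalarTower A B N]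
    [Module.Flat A N] (g : B) : Module.Flat A (LocalizedModule (Submonoid.powers g) N) := by
  refine (flatOn_powers_iff g).1 fun I x hx => ⟨1, one_mem _, ?_⟩
  rw [one_smul]
  refine mulI_injective_of_flat (P := B) ?_
  rw [hx, map_zero]

/-- A prime minimal over the annihilator, keeping track of the localisation map. -/
theorem exists_prime_killed {N Q : Type u} [AddCommGroup N] [Module B N] [Module A N] [IsScalarTower A B N]
    [AddCommGroup Q] [Module A Q] (z : N ⊗[A] Q) (hzne : z ≠ 0) :
    ∃ (p : Ideal A) (_ : p.IsPrime),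
      let z' := AlgebraTensorModule.lTensor B N (LocalizedModule.mkLinearMap p.primeCompl Q) z
      z' ≠ 0 ∧ ∀ a ∈ p, ∃ n : ℕ, a ^ n • z' = 0 := by
  let I : Ideal A := LinearMap.ker (LinearMap.toSpanSingleton A (N ⊗[A] Q) z)
  have hIt : I ≠ ⊤ := fun ht => hzne (by
    have h1 : (1 : A) ∈ I := ht ▸ Submodule.mem_top
    simpa [I] using h1)
  obtain ⟨m, hm, hIm⟩ := Ideal.exists_le_maximal I hIt
  haveI := hm.isPrime
  obtain ⟨p, hp, -⟩ := Ideal.exists_minimalPrimes_le hIm
  haveI hpp : p.IsPrime := hp.1.1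
  let Qp := LocalizedModule p.primeCompl Q
  let g : Q →ₗ[A] Qp := LocalizedModule.mkLinearMap p.primeCompl Q
  let z' : N ⊗[A] Qp := g.lTensor N z
  have hker : ∀ {a : A}, a • z' = 0 → ∃ c ∈ p.primeCompl, c * a ∈ I := by
    intro a ha
    have h1 : AlgebraTensorModule.rTensor A N g (TensorProduct.comm A N Q (a • z)) = 0 := by
      show g.rTensor N (TensorProduct.comm A N Q (a • z)) = 0
      rw [LinearMap.rTensor_comm, map_smul]
      exact (congrArg _ ha).trans (map_zero _)
    haveI : IsLocalizedModule p.primeCompl (AlgebraTensorModule.rTensor A N g) := inferInstance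
    obtain ⟨⟨c, hc⟩, hcz⟩ := (IsLocalizedModule.eq_zero_iff p.primeCompl _).1 h1
    replace hcz : c • TensorProduct.comm A N Q (a • z) = 0 := hcz
    rw [← map_smul, LinearEquiv.map_eq_zero_iff, smul_smul] at hcz
    exact ⟨c, hc, hcz⟩
  refine ⟨p, hpp, ?_, fun a ha => ?_⟩
  · intro h0
    obtain ⟨c, hc, hcI⟩ := hker (a := 1) (by rw [one_smul]; exact h0)
    rw [mul_one] at hcI
    exact hc (hp.1.2 hcI)
  · show ∃ n : ℕ, a ^ n • z' = 0
    by_contra hno
    push Not at hno
    have hdis : Disjoint (I : Set A) ((p.primeCompl ⊔ Submonoid.powers a : Submonoid A) : Set A) := by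
      rw [Set.disjoint_left]
      intro x hx hxS
      obtain ⟨c, hc, _, ⟨n, rfl⟩, rfl⟩ := Submonoid.mem_sup.1 hxS
      refine hno n ?_
      have h1 : (c * a ^ n) • z' = 0 := by
        show (c * a ^ n) • g.lTensor N z = 0
        rw [← map_smul, show (c * a ^ n) • z = 0 from hx, map_zero]
      let e : Qp ≃ₗ[A] Qp := LinearEquiv.ofBijective (algebraMap A (Module.End A Qp) c)
        ((Module.End.isUnit_iff _).1 (IsLocalizedModule.map_units g ⟨c, hc⟩))
      have hu : Function.Injective fun w : N ⊗[A] Qp => c • w := by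
        have he : ∀ w : N ⊗[A] Qp, e.toLinearMap.lTensor N w = c • w := fun w => by
          induction w with
          | zero => simp
          | add a b ha hb => rw [map_add, ha, hb, smul_add]
          | tmul m q =>
            show m ⊗ₜ[A] (c • q) = c • m ⊗ₜ[A] q
            rw [tmul_smul]
        intro a b hab
        exact (e.lTensor N).injective ((he a).trans (hab.trans (he b).symm))
      rw [mul_smul] at h1
      exact hu (h1.trans (smul_zero c).symm)
    obtain ⟨q, hq, hIq, hqS⟩ := Ideal.exists_le_prime_disjoint I _ hdis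
    have hqp : q ≤ p := fun x hx => by_contra fun hxp =>
      Set.disjoint_left.1 hqS hx (Submonoid.mem_sup_left (show x ∈ p.primeCompl from hxp))
    have hqa : a ∉ q := fun hx => Set.disjoint_left.1 hqS hx (Submonoid.mem_sup_right (Submonoid.mem_powers a))
    exact hqa (hp.2 ⟨hq, hIq⟩ hqp ha)

/-- **Fibrewise no sections supported on `V(I)` ⇒ none after any base change.** -/
theorem eq_zero_of_killed [Algebra.FinitePresentation A B] {I : Ideal B} {N : Type u} [AddCommGroup N] [Module B N]
    [Module A N] [IsScalarTower A B N] [Module.FinitePresentation B N] [Module.Flat A N] (h : FibreFree (A := A) I N)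
    {Q : Type u} [AddCommGroup Q] [Module A Q] (z : N ⊗[A] Q) (hz : ∀ g ∈ I, ∃ n : ℕ, g ^ n • z = 0) : z = 0 := by
  classical
  by_contra hzne
  obtain ⟨p, hp, hz'ne, hnil⟩ := exists_prime_killed (B := B) z hzne
  set z' := AlgebraTensorModule.lTensor B N (LocalizedModule.mkLinearMap p.primeCompl Q) z with hz'def
  obtain ⟨G, hG, hGinj⟩ := exists_finset_fibre h p
  haveI : ∀ g : G, Module.Flat A (LocalizedModule (Submonoid.powers (g : B)) N) := fun g => flat_localized_powers _
  haveI : Module.Flat A ((g : G) → LocalizedModule (Submonoid.powers (g : B)) N) :=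
    Module.Flat.of_linearEquiv
      (DirectSum.linearEquivFunOnFintype A G fun g => LocalizedModule (Submonoid.powers (g : B)) N).symm
  let u : N →ₗ[A] ((g : G) → LocalizedModule (Submonoid.powers (g : B)) N) :=
    LinearMap.pi fun g : G => (LocalizedModule.mkLinearMap (Submonoid.powers (g : B)) N).restrictScalars A
  haveI : IsLocalization (⊥ : Submonoid B) B := IsLocalization.self fun x hx => by
    rw [Submonoid.mem_bot] at hx; subst hx; exact isUnit_one
  obtain ⟨J, hJfg, hJle, hinj⟩ := UnivInjFib.exists_ideal (⊥ : Submonoid B) (BT := B) N _ u p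
    ((injective_iff_map_eq_zero _).2 fun x hx => hGinj p.ResidueField x ((rTensor_pi_eq_zero_iff G _ x).1 hx))
  have hz' : u.rTensor _ z' = 0 := (rTensor_pi_eq_zero_iff G _ z').2 fun g hg => by
    obtain ⟨n, hn⟩ := hz g (hG hg)
    exact ⟨n, by rw [hz'def, ← map_smul, hn, map_zero]⟩
  let I' : Ideal A := LinearMap.ker (LinearMap.toSpanSingleton A (N ⊗[A] LocalizedModule p.primeCompl Q) z')
  obtain ⟨n, hn⟩ := Ideal.exists_pow_le_of_le_radical_of_fg (I := J) (J := I') (fun a ha => by
    obtain ⟨k, hk⟩ := hnil a (hJle ha)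
    exact ⟨k, hk⟩) hJfg
  obtain ⟨G', hG'⟩ := Submodule.FG.pow hJfg n
  obtain ⟨K, hK, y, hy⟩ := UnivInjFib.exists_descend (Ap := Localization.AtPrime p) z' G'
    fun a ha => hn (hG' ▸ Submodule.subset_span ha)
  have hy0 : y = 0 := UnivInjFib.injective_rTensor_of_pow (Ap := Localization.AtPrime p) u J hinj n K
    (fun a ha => hK a (by rw [show Ideal.span (G' : Set A) = J ^ n from hG']; exact ha)) (by
    refine Module.Flat.lTensor_preserves_injective_linearMap (M := ((g : G) → LocalizedModule (Submonoid.powers (g : B)) N))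
      (K.subtype.restrictScalars A) K.subtype_injective ?_
    rw [map_zero, map_zero, ← LinearMap.comp_apply, LinearMap.lTensor_comp_rTensor, ← LinearMap.rTensor_comp_lTensor,
      LinearMap.comp_apply, hy, hz'])
  exact hz'ne (by rw [← hy, hy0, map_zero])

end Groth.FlatDescent.LocalFP

namespace Groth.FlatDescent.LocalFP

/-- Base change of fibres. -/
theorem exists_fibre_equiv {A A' B B' M L : Type u} [CommRing A] [CommRing A'] [CommRing B] [CommRing B'] [Algebra A A']
    [Algebra A B] [Algebra A B'] [Algebra A' B'] [Algebra B B'] [IsScalarTower A A' B'] [IsScalarTower A B B']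
    [Algebra.IsPushout A A' B B'] [AddCommGroup M] [Module B M] [Module A M] [IsScalarTower A B M]
    [CommRing L] [Algebra A L] [Algebra A' L] [IsScalarTower A A' L] :
    ∃ ψ : M ⊗[A] L →+ (B' ⊗[B] M) ⊗[A'] L, Function.Bijective ψ ∧
      ∀ (b : B) (w : M ⊗[A] L), ψ (b • w) = algebraMap B B' b • ψ w := by
  let e : (B' ⊗[B] M) ≃ₗ[A'] A' ⊗[A] M := Algebra.IsPushout.cancelBaseChange A A' B B' M
  let E : M ⊗[A] L ≃+ (B' ⊗[B] M) ⊗[A'] L :=
    ((TensorProduct.comm A M L).toAddEquiv.trans
      (AlgebraTensorModule.cancelBaseChange A A' A' L M).symm.toAddEquiv).trans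
      ((LinearEquiv.lTensor L e.symm).toAddEquiv.trans (TensorProduct.comm A' L (B' ⊗[B] M)).toAddEquiv)
  have hE : ∀ (m : M) (l : L), E (m ⊗ₜ l) = ((1 : B') ⊗ₜ[B] m) ⊗ₜ[A'] l := fun m l => by
    simp [E, e, Algebra.IsPushout.cancelBaseChange_symm_tmul]
  refine ⟨E.toAddMonoidHom, E.bijective, fun b w => ?_⟩
  show E (b • w) = algebraMap B B' b • E w
  induction w with
  | zero => simp
  | add x y hx hy => rw [smul_add, map_add, map_add, smul_add, hx, hy]
  | tmul m l =>
    rw [TensorProduct.smul_tmul', hE, hE, tmul_smul, ← algebraMap_smul B' b ((1 : B') ⊗ₜ[B] m)]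
    rfl

theorem fp_localized_powers {R N : Type u} [CommRing R] [AddCommGroup N] [Module R N] [Module.FinitePresentation R N]
    (a : R) : Module.FinitePresentation (Localization.Away a) (LocalizedModule (Submonoid.powers a) N) :=
  FinitePresentation.of_isBaseChange (LocalizedModule.mkLinearMap (Submonoid.powers a) N)
    (IsLocalizedModule.isBaseChange (Submonoid.powers a) (Localization.Away a) _)

set_option maxHeartbeats 800000 in
/-- **Base change, locally**: elements killed by powers of `a g`, `g ∈ I`, are killed by a power of `a`. -/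
theorem eq_zero_baseChange {A A' B B' M : Type u} [CommRing A] [CommRing A'] [CommRing B] [CommRing B'] [Algebra A A']
    [Algebra A B] [Algebra A B'] [Algebra A' B'] [Algebra B B'] [IsScalarTower A A' B'] [IsScalarTower A B B']
    [Algebra.IsPushout A A' B B'] [Algebra.FinitePresentation A B] [AddCommGroup M] [Module B M] [Module A M]
    [IsScalarTower A B M] [Module.FinitePresentation B M] [Module.Flat A M] {I : Ideal B} (h : FibreFree (A := A) I M)
    (a : B') (y : B' ⊗[B] M) (hy : ∀ g ∈ I, ∃ n : ℕ, (a * algebraMap B B' g) ^ n • y = 0) :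
    ∃ k : ℕ, a ^ k • y = 0 := by
  classical
  haveI : Algebra.FinitePresentation A' B' :=
    Algebra.FinitePresentation.equiv (Algebra.IsPushout.equiv A A' B B')
  haveI : SMulCommClass B A' B' := ⟨fun b a c => by simp only [Algebra.smul_def]; ring⟩
  haveI : Module.Flat A' (B' ⊗[B] M) :=
    Module.Flat.of_linearEquiv (Algebra.IsPushout.cancelBaseChange A A' B B' M)
  haveI : Module.FinitePresentation B' (B' ⊗[B] M) :=
    FinitePresentation.of_isBaseChange (TensorProduct.mk B B' M 1) (TensorProduct.isBaseChange B M B')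
  let Ba := Localization.Away a
  let Na := LocalizedModule (Submonoid.powers a) (B' ⊗[B] M)
  let mk₁ := LocalizedModule.mkLinearMap (Submonoid.powers a) (B' ⊗[B] M)
  haveI : Algebra.FinitePresentation B' Ba := IsLocalization.Away.finitePresentation a
  haveI : Algebra.FinitePresentation A' Ba := Algebra.FinitePresentation.trans A' B' Ba
  haveI : Module.Flat A' Na := flat_localized_powers a
  haveI : Module.FinitePresentation Ba Na := fp_localized_powers (N := B' ⊗[B] M) a
  let I'' : Ideal Ba := (I.map (algebraMap B B')).map (algebraMap B' Ba)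
  have hgen : ∀ g ∈ I, algebraMap B' Ba (algebraMap B B' g) ∈ I'' := fun g hg =>
    Ideal.mem_map_of_mem _ (Ideal.mem_map_of_mem _ hg)
  have hfree : FibreFree (A := A') I'' Na := by
    intro p' hp' z hz
    obtain ⟨G, hG, hGinj⟩ := exists_finset_fibre h (p'.comap (algebraMap A A'))
    let L := p'.ResidueField
    letI : Algebra (p'.comap (algebraMap A A')).ResidueField L :=
      (Ideal.ResidueField.mapₐ (p'.comap (algebraMap A A')) p' (Algebra.ofId A A') rfl).toRingHom.toAlgebra
    haveI : IsScalarTower A (p'.comap (algebraMap A A')).ResidueField L := IsScalarTower.of_algebraMap_eq fun x =>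
      ((Ideal.ResidueField.mapₐ (p'.comap (algebraMap A A')) p' (Algebra.ofId A A') rfl).commutes x).symm
    obtain ⟨ψ, hψ, hψb⟩ := exists_fibre_equiv (A := A) (A' := A') (B := B) (B' := B') (M := M) (L := L)
    let f := AlgebraTensorModule.rTensor A' L mk₁
    haveI : IsLocalizedModule (Submonoid.powers a) f := inferInstance
    obtain ⟨⟨v, ⟨_, k, rfl⟩⟩, hv⟩ := IsLocalizedModule.surj (Submonoid.powers a) f z
    replace hv : a ^ k • z = f v := hv
    have hu : ∀ (m : ℕ) (w : Na ⊗[A'] L), a ^ m • w = 0 → w = 0 := fun m w hw => by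
      refine ((Module.End.isUnit_iff _).1 (IsLocalizedModule.map_units f
        (⟨a ^ m, m, rfl⟩ : Submonoid.powers a))).injective ?_
      rw [map_zero]
      exact hw
    have hex : ∀ g ∈ G, ∃ j n : ℕ, (a ^ j * algebraMap B B' g ^ n) • v = 0 := fun g hg => by
      obtain ⟨n, hn⟩ := hz _ (hgen g (hG hg))
      rw [← map_pow, algebraMap_smul] at hn
      have h1 : f (algebraMap B B' g ^ n • v) = 0 := by rw [map_smul, ← hv, smul_comm, hn, smul_zero]
      obtain ⟨⟨c, j, rfl⟩, hc⟩ := (IsLocalizedModule.eq_zero_iff (Submonoid.powers a) f).1 h1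
      exact ⟨j, n, by rw [mul_smul]; exact hc⟩
    choose! j n hjn using hex
    let J := G.sup j
    obtain ⟨w, hw⟩ := hψ.2 (a ^ J • v)
    have hw0 : w = 0 := hGinj L w fun g hg => ⟨n g, hψ.1 (by
      rw [hψb, map_zero, hw, map_pow, smul_smul, show algebraMap B B' g ^ n g * a ^ J =
        a ^ (J - j g) * (a ^ j g * algebraMap B B' g ^ n g) by
          rw [← mul_assoc, ← pow_add, Nat.sub_add_cancel (Finset.le_sup hg : j g ≤ J), mul_comm],
        mul_smul, hjn g hg, smul_zero])⟩
    rw [hw0, map_zero] at hw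
    refine hu (J + k) z ?_
    rw [pow_add, mul_smul, hv, ← map_smul, ← hw, map_zero]
  have hkill : ∀ c ∈ I'', ∃ n : ℕ, c ^ n • (mk₁ y ⊗ₜ[A'] (1 : A')) = 0 := by
    let K₀ : Ideal Ba := LinearMap.ker (LinearMap.toSpanSingleton Ba (Na ⊗[A'] A') (mk₁ y ⊗ₜ[A'] (1 : A')))
    let K : Ideal Ba := K₀.radical
    suffices I'' ≤ K from fun c hc => this hc
    refine Ideal.map_le_iff_le_comap.2 (Ideal.map_le_iff_le_comap.2 fun g hg => ?_)
    obtain ⟨n, hn⟩ := hy g hg
    refine ⟨n, ?_⟩
    show algebraMap B' Ba (algebraMap B B' g) ^ n • (mk₁ y ⊗ₜ[A'] (1 : A')) = 0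
    rw [← map_pow, algebraMap_smul, smul_tmul', ← map_smul]
    have h1 : mk₁ (algebraMap B B' g ^ n • y) = 0 := (IsLocalizedModule.eq_zero_iff (Submonoid.powers a) mk₁).2
      ⟨⟨a ^ n, n, rfl⟩, by rw [Submonoid.smul_def, smul_smul, ← mul_pow]; exact hn⟩
    rw [h1, zero_tmul]
  have h0 := eq_zero_of_killed hfree (mk₁ y ⊗ₜ[A'] (1 : A')) hkill
  have h1 : mk₁ y = 0 := by
    have := congrArg (TensorProduct.rid A' Na) h0
    rwa [map_zero, TensorProduct.rid_tmul, one_smul] at this
  obtain ⟨⟨_, k, rfl⟩, hk⟩ := (IsLocalizedModule.eq_zero_iff (Submonoid.powers a) mk₁).1 h1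
  exact ⟨k, hk⟩

end Groth.FlatDescent.LocalFP
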