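import Mathlib
import Groth.Agent.FlatDescent.LocalFP.Supp
import Groth.Agent.FlatDescent.LocalFP.Sheaf
import Groth.Agent.FlatDescent.SheafBC.Main
import Groth.Agent.RelFPLib.PullTensor
import Groth.Agent.QCohLib.Sections
import Groth.Agent.QCohLib.Pullback

/-!
# Restriction to an open subset, universally injective iff injective on fibres (EGA IV 11.10)
-/

universe u

open AlgebraicGeometry CategoryTheory CategoryTheory.Limits TensorProduct TopologicalSpace Groth.Agent.QCohLib

namespace Groth.FlatDescent.LocalFP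

variable {X S S' : Scheme.{u}}

theorem eq_zero_of_field {A B M L : Type u} [CommRing A] [CommRing B] [Algebra A B] [AddCommGroup M] [Module B M]
    [Module A M] [IsScalarTower A B M] [Module.Flat A M] (p : Ideal A) [p.IsPrime] [Field L] [Algebra A L]
    (hker : p = RingHom.ker (algebraMap A L)) (z : M ⊗[A] p.ResidueField)
    (h : ∀ ι : p.ResidueField →ₗ[A] L, AlgebraTensorModule.lTensor B M ι z = 0) : z = 0 := by
  let φ : p.ResidueField →+* L := Ideal.ResidueField.lift p (algebraMap A L) hker.le fun a ha =>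
    isUnit_iff_ne_zero.2 fun h0 => ha (hker ▸ RingHom.mem_ker.2 h0)
  let ι : p.ResidueField →ₗ[A] L :=
    { toFun := φ
      map_add' := map_add φ
      map_smul' := fun a x => by
        rw [RingHom.id_apply, Algebra.smul_def, map_mul, Algebra.smul_def,
          show φ (algebraMap A p.ResidueField a) = algebraMap A L a from Ideal.ResidueField.lift_algebraMap _ _ _ _ a] }
  exact Module.Flat.lTensor_preserves_injective_linearMap (M := M) ι φ.injective ((h ι).trans (map_zero _).symm)

theorem fibre_free_of_restrict {X S : Scheme.{u}} (f : X ⟶ S) (F : X.Modules) [F.IsQuasicoherent] (U : X.Opens)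
    (h : ∀ (s : S) (V : (↑(f.fiber s) : Scheme.{u}).Opens),
      Function.Injective (((Scheme.Modules.pullback (f.fiberι s)).obj F).presheaf.map
        (homOfLE (inf_le_left : V ⊓ (f.fiberι s) ⁻¹ᵁ U ≤ V)).op))
    {W : S.Opens} (hW : IsAffineOpen W) {UX : X.Opens} (hUX : IsAffineOpen UX) (e : UX ≤ f ⁻¹ᵁ W)
    (hflat : ∀ x ∈ UX, FlatMod.IsFlatOverAt f F x) :
    letI := (f.appLE W UX e).hom.toAlgebra
    letI := appLEModule f F W UX e
    haveI : IsScalarTower Γ(S, W) Γ(X, UX) Γ(F, UX) := IsScalarTower.of_algebraMap_smul fun _ _ => rfl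
    FibreFree (A := Γ(S, W)) (Ideal.span {b : Γ(X, UX) | X.basicOpen b ≤ U}) Γ(F, UX) := by
  letI := (f.appLE W UX e).hom.toAlgebra
  letI := appLEModule f F W UX e
  haveI : IsScalarTower Γ(S, W) Γ(X, UX) Γ(F, UX) := IsScalarTower.of_algebraMap_smul fun _ _ => rfl
  haveI : Module.Flat Γ(S, W) Γ(F, UX) := flat_sections f F hW hUX e hflat
  intro p hp z hz
  let P : PrimeSpectrum Γ(S, W) := ⟨p, hp⟩
  let s : S := hW.fromSpec P
  have hsW : s ∈ W := hW.range_fromSpec.le ⟨P, rfl⟩
  let W₀ : (Spec (S.residueField s)).Opens := ⊤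
  have eW : W₀ ≤ S.fromSpecResidueField s ⁻¹ᵁ W := fun t _ => by
    show S.fromSpecResidueField s t ∈ W
    rw [Scheme.fromSpecResidueField_apply]
    exact hsW
  have hc : IsPullback (f.fiberι s) (f.fiberToSpecResidueField s) f (S.fromSpecResidueField s) :=
    IsPullback.of_hasPullback _ _
  let O : (↑(f.fiber s) : Scheme.{u}).Opens := f.fiberι s ⁻¹ᵁ UX ⊓ f.fiberToSpecResidueField s ⁻¹ᵁ W₀
  have hW₀ : IsAffineOpen W₀ := isAffineOpen_top _
  have hO : IsAffineOpen O := by
    haveI : IsAffine W.toScheme := hW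
    haveI : IsAffine W₀ := hW₀
    haveI : IsAffine UX.toScheme := hUX
    exact .of_isIso (Scheme.Hom.isPullback_resLE hc eW e (rfl : O = _)).isoPullback.hom
  have eg : O ≤ f.fiberι s ⁻¹ᵁ UX := inf_le_left
  have ef : O ≤ f.fiberToSpecResidueField s ⁻¹ᵁ W₀ := inf_le_right
  let A := Γ(S, W)
  let B := Γ(X, UX)
  let L := Γ(Spec (S.residueField s), W₀)
  let B' := Γ((↑(f.fiber s) : Scheme.{u}), O)
  letI : Algebra A L := ((S.fromSpecResidueField s).appLE W W₀ eW).hom.toAlgebra
  letI : Algebra B B' := ((f.fiberι s).appLE UX O eg).hom.toAlgebra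
  letI : Algebra L B' := ((f.fiberToSpecResidueField s).appLE W₀ O ef).hom.toAlgebra
  letI : Algebra A B' := ((algebraMap L B').comp (algebraMap A L)).toAlgebra
  haveI : IsScalarTower A L B' := IsScalarTower.of_algebraMap_eq fun _ => rfl
  haveI : IsScalarTower A B B' := IsScalarTower.of_algebraMap_eq fun a => by
    change (f.fiberToSpecResidueField s).appLE W₀ O ef ((S.fromSpecResidueField s).appLE W W₀ eW a) =
      (f.fiberι s).appLE UX O eg (f.appLE W UX e a)
    rw [← CommRingCat.comp_apply, ← CommRingCat.comp_apply, Scheme.Hom.appLE_comp_appLE, Scheme.Hom.appLE_comp_appLE]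
    simp only [hc.w]
  have hpush := (isIso_pushoutSection_iff hc eW e (rfl : O = _)).mp
    (isIso_pushoutSection_of_isAffineOpen hc eW e (rfl : O = _) hW hW₀ hUX)
  haveI : Algebra.IsPushout A L B B' := CommRingCat.isPushout_iff_isPushout.mp hpush.flip
  have hL : IsField L :=
    MulEquiv.isField (Field.toIsField (S.residueField s))
      (Scheme.ΓSpecIso (S.residueField s)).commRingCatIsoToRingEquiv.toMulEquiv
  letI : Field L := hL.toField
  have hker : p = RingHom.ker (algebraMap A L) := by
    ext a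
    rw [RingHom.mem_ker]
    have h1 : a ∈ p ↔ s ∉ S.basicOpen a := by
      rw [mem_basicOpen_iff_notMem_primeIdealOf hW hsW, not_not,
        show hW.primeIdealOf ⟨s, hsW⟩ = P from hW.fromSpec.isOpenEmbedding.injective (hW.fromSpec_primeIdealOf _)]
    rw [h1]
    let pt : Spec (S.residueField s) := IsLocalRing.closedPoint (S.residueField s)
    have h2 : pt ∈ (Spec (S.residueField s)).basicOpen ((S.fromSpecResidueField s).appLE W W₀ eW a) ↔
        s ∈ S.basicOpen a := by
      rw [Scheme.basicOpen_appLE]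
      constructor
      · intro hm
        have hm' : S.fromSpecResidueField s pt ∈ S.basicOpen a := hm.2
        rwa [Scheme.fromSpecResidueField_apply] at hm'
      · intro hm
        refine ⟨trivial, ?_⟩
        show S.fromSpecResidueField s pt ∈ S.basicOpen a
        rw [Scheme.fromSpecResidueField_apply]
        exact hm
    rw [← not_iff_not, not_not, ← h2]
    constructor
    · intro hm h0
      rw [show (S.fromSpecResidueField s).appLE W W₀ eW a = 0 from h0, Scheme.basicOpen_zero] at hm
      exact hm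
    · intro hne
      have hu : IsUnit ((S.fromSpecResidueField s).appLE W W₀ eW a) := isUnit_iff_ne_zero.2 hne
      rw [(Spec (S.residueField s)).basicOpen_of_isUnit hu]
      trivial
  refine eq_zero_of_field (B := B) (L := L) p hker z fun ι => ?_
  obtain ⟨ψ, hψ, hψb⟩ := exists_fibre_equiv (A := A) (A' := L) (B := B) (B' := B') (M := Γ(F, UX)) (L := L)
  haveI : SMulCommClass B L B' := ⟨fun b a c => by simp only [Algebra.smul_def]; ring⟩
  obtain ⟨eT, -⟩ := Groth.Agent.RelFPLib.exists_pullTensorEquiv (f.fiberι s) F hUX hO eg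
  haveI : ((Scheme.Modules.pullback (f.fiberι s)).obj F).IsQuasicoherent := isQuasicoherent_pullback _ _
  let r := TensorProduct.rid L (B' ⊗[B] Γ(F, UX))
  suffices h0 : eT (r (ψ (AlgebraTensorModule.lTensor B Γ(F, UX) ι z))) = 0 by
    rw [LinearEquiv.map_eq_zero_iff, LinearEquiv.map_eq_zero_iff] at h0
    exact hψ.1 (h0.trans (map_zero ψ).symm)
  set t := eT (r (ψ (AlgebraTensorModule.lTensor B Γ(F, UX) ι z))) with ht
  refine h s O ?_
  rw [map_zero]
  refine section_ext (M := (Scheme.Modules.pullback (f.fiberι s)).obj F) _ _ fun x hx => ?_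
  rw [map_zero, TopCat.Presheaf.germ_res_apply]
  obtain ⟨g, hgU, hxg⟩ := hUX.exists_basicOpen_le (V := U) ⟨f.fiberι s x, hx.2⟩ (eg hx.1)
  obtain ⟨n, hn⟩ := hz g (Ideal.subset_span hgU)
  have hr : ∀ (c : B') (w : (B' ⊗[B] Γ(F, UX)) ⊗[L] L), r (c • w) = c • r w := fun c w => by
    induction w with
    | zero => simp
    | add u v hu hv => simp only [smul_add, map_add, hu, hv]
    | tmul v l =>
      rw [TensorProduct.smul_tmul', TensorProduct.rid_tmul, TensorProduct.rid_tmul]
      exact smul_comm l c v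
  have h1 : algebraMap B B' g ^ n • t = 0 := by
    rw [ht, ← map_smul, ← hr, ← map_pow, ← hψb, ← map_smul, hn, map_zero, map_zero, map_zero, map_zero]
  refine (germ_eq_zero_iff hO x hx.1 t).2 ⟨algebraMap B B' g ^ n, ?_, h1⟩
  rw [Scheme.mem_basicOpen _ _ x hx.1, map_pow]
  refine IsUnit.pow n ((Scheme.mem_basicOpen _ _ x hx.1).1 ?_)
  rw [show (algebraMap B B' g) = (f.fiberι s).appLE UX O eg g from rfl, Scheme.basicOpen_appLE]
  exact ⟨hx.1, hxg⟩

theorem restrict_injective {X S S' : Scheme.{u}} (f : X ⟶ S) [LocallyOfFinitePresentation f] (F : X.Modules)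
    [F.IsQuasicoherent] (hF : F.IsFinitePresentation) (hflat : FlatMod.IsFlatOver f F) (U : X.Opens)
    (h : ∀ (s : S) (V : (↑(f.fiber s) : Scheme.{u}).Opens),
      Function.Injective (((Scheme.Modules.pullback (f.fiberι s)).obj F).presheaf.map
        (homOfLE (inf_le_left : V ⊓ (f.fiberι s) ⁻¹ᵁ U ≤ V)).op))
    (g : S' ⟶ S) (V : (↑(pullback f g) : Scheme.{u}).Opens) :
    Function.Injective (((Scheme.Modules.pullback (pullback.fst f g)).obj F).presheaf.map
      (homOfLE (inf_le_left : V ⊓ (pullback.fst f g) ⁻¹ᵁ U ≤ V)).op) := by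
  let F' := (Scheme.Modules.pullback (pullback.fst f g)).obj F
  haveI : F'.IsQuasicoherent := isQuasicoherent_pullback _ _
  refine (injective_iff_map_eq_zero _).2 fun σ hσ => ?_
  refine section_ext (M := F') _ _ fun x hxV => ?_
  rw [map_zero]
  have hc : IsPullback (pullback.fst f g) (pullback.snd f g) f g := IsPullback.of_hasPullback _ _
  obtain ⟨W, hW, hxW, -⟩ := SheafBC.exists_mem_affine_le (⊤ : S.Opens) (z := f (pullback.fst f g x)) trivial
  obtain ⟨UX, hUX, hxUX, e⟩ := SheafBC.exists_mem_affine_le (f ⁻¹ᵁ W) (z := pullback.fst f g x) hxW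
  have hxW' : g (pullback.snd f g x) ∈ W := by
    rw [← Scheme.Hom.comp_apply, ← hc.w, Scheme.Hom.comp_apply]
    exact hxW
  obtain ⟨WS, hWS, hxWS, eW⟩ := SheafBC.exists_mem_affine_le (g ⁻¹ᵁ W) (z := pullback.snd f g x) hxW'
  let O : (↑(pullback f g) : Scheme.{u}).Opens := pullback.fst f g ⁻¹ᵁ UX ⊓ pullback.snd f g ⁻¹ᵁ WS
  have hxO : x ∈ O := ⟨hxUX, hxWS⟩
  have hO : IsAffineOpen O := by
    haveI : IsAffine W.toScheme := hW
    haveI : IsAffine WS := hWS
    haveI : IsAffine UX.toScheme := hUX
    exact .of_isIso (Scheme.Hom.isPullback_resLE hc eW e (rfl : O = _)).isoPullback.hom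
  have eg : O ≤ pullback.fst f g ⁻¹ᵁ UX := inf_le_left
  have ef : O ≤ pullback.snd f g ⁻¹ᵁ WS := inf_le_right
  let A := Γ(S, W)
  let A' := Γ(S', WS)
  let B := Γ(X, UX)
  let B' := Γ((↑(pullback f g) : Scheme.{u}), O)
  letI : Algebra A B := (f.appLE W UX e).hom.toAlgebra
  letI : Algebra A A' := (g.appLE W WS eW).hom.toAlgebra
  letI : Algebra B B' := ((pullback.fst f g).appLE UX O eg).hom.toAlgebra
  letI : Algebra A' B' := ((pullback.snd f g).appLE WS O ef).hom.toAlgebra
  letI : Algebra A B' := ((algebraMap A' B').comp (algebraMap A A')).toAlgebra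
  haveI : IsScalarTower A A' B' := IsScalarTower.of_algebraMap_eq fun _ => rfl
  haveI : IsScalarTower A B B' := IsScalarTower.of_algebraMap_eq fun a => by
    change (pullback.snd f g).appLE WS O ef (g.appLE W WS eW a) = (pullback.fst f g).appLE UX O eg (f.appLE W UX e a)
    rw [← CommRingCat.comp_apply, ← CommRingCat.comp_apply, Scheme.Hom.appLE_comp_appLE, Scheme.Hom.appLE_comp_appLE]
    simp only [hc.w]
  have hpush := (isIso_pushoutSection_iff hc eW e (rfl : O = _)).mp
    (isIso_pushoutSection_of_isAffineOpen hc eW e (rfl : O = _) hW hWS hUX)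
  haveI : Algebra.IsPushout A A' B B' := CommRingCat.isPushout_iff_isPushout.mp hpush.flip
  letI := appLEModule f F W UX e
  haveI : IsScalarTower A B Γ(F, UX) := IsScalarTower.of_algebraMap_smul fun _ _ => rfl
  haveI : Algebra.FinitePresentation A B :=
    HasRingHomProperty.appLE @LocallyOfFinitePresentation f inferInstance ⟨W, hW⟩ ⟨UX, hUX⟩ e
  haveI := finitePresentation_sections (M := F) hF hUX
  haveI : Module.Flat A Γ(F, UX) := flat_sections f F hW hUX e fun y _ => hflat y
  have hfree := fibre_free_of_restrict f F U h hW hUX e fun y _ => hflat y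
  obtain ⟨eT, -⟩ := Groth.Agent.RelFPLib.exists_pullTensorEquiv (pullback.fst f g) F hUX hO eg
  -- a basic open neighbourhood inside `V`
  obtain ⟨a, haV, hxa⟩ := hO.exists_basicOpen_le (V := V) ⟨x, hxV⟩ hxO
  obtain ⟨n, y, hy⟩ := exists_res_eq_pow_smul hO a _ (((↑(pullback f g) : Scheme.{u})).basicOpen_le a) rfl
    (F'.presheaf.map (homOfLE haV).op σ)
  have hkill : ∀ b ∈ Ideal.span {b : B | X.basicOpen b ≤ U},
      ∃ m : ℕ, (a * algebraMap B B' b) ^ m • eT.symm y = 0 := by
    let K₀ : Ideal B' := LinearMap.ker (LinearMap.toSpanSingleton B' (B' ⊗[B] Γ(F, UX)) (eT.symm y))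
    let K : Ideal B' := K₀.radical
    intro b hb
    suffices a * algebraMap B B' b ∈ K from this
    induction hb using Submodule.span_induction with
    | mem b hb =>
      let D := (↑(pullback f g) : Scheme.{u}).basicOpen (a * algebraMap B B' b)
      have hDa : D ≤ (↑(pullback f g) : Scheme.{u}).basicOpen a := by
        rw [show D = _ from (↑(pullback f g) : Scheme.{u}).basicOpen_mul a (algebraMap B B' b)]
        exact inf_le_left
      have hDU : D ≤ V ⊓ pullback.fst f g ⁻¹ᵁ U := by
        intro w hw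
        rw [show D = _ from (↑(pullback f g) : Scheme.{u}).basicOpen_mul a (algebraMap B B' b)] at hw
        refine ⟨haV hw.1, ?_⟩
        have h2 := hw.2
        rw [show (algebraMap B B' b) = (pullback.fst f g).appLE UX O eg b from rfl, Scheme.basicOpen_appLE] at h2
        exact hb h2.2
      have h0 : F'.presheaf.map (homOfLE ((↑(pullback f g) : Scheme.{u}).basicOpen_le (a * algebraMap B B' b))).op y = 0 := by
        rw [← map_map F' hDa ((↑(pullback f g) : Scheme.{u}).basicOpen_le a) y, hy, Scheme.Modules.map_smul,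
          map_map F' hDa haV σ, ← map_map F' hDU inf_le_left σ, hσ, map_zero, smul_zero]
      obtain ⟨m, hm⟩ := exists_pow_smul_eq_zero hO _ D (((↑(pullback f g) : Scheme.{u})).basicOpen_le _) rfl y h0
      refine ⟨m, ?_⟩
      show (a * algebraMap B B' b) ^ m • eT.symm y = 0
      rw [← map_smul, hm, map_zero]
    | zero => rw [map_zero, mul_zero]; exact zero_mem _
    | add b c _ _ hb hc => rw [map_add, mul_add]; exact add_mem hb hc
    | smul c b _ hb => rw [smul_eq_mul, map_mul, mul_left_comm]; exact K.mul_mem_left _ hb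
  obtain ⟨k, hk⟩ := eq_zero_baseChange (A := A) (A' := A') hfree a (eT.symm y) hkill
  rw [← map_smul, LinearEquiv.map_eq_zero_iff] at hk
  have hu : IsUnit ((↑(pullback f g) : Scheme.{u}).presheaf.germ O x hxO a) :=
    ((↑(pullback f g) : Scheme.{u}).mem_basicOpen a x hxO).1 hxa
  have h3 : F'.presheaf.germ O x hxO y = 0 := by
    have := congrArg (F'.presheaf.germ O x hxO) hk
    rw [germ_smul, map_zero, map_pow] at this
    exact (hu.pow k).smul_eq_zero.1 this
  have h4 := congrArg (F'.presheaf.germ _ x hxa) hy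
  rw [TopCat.Presheaf.germ_res_apply, h3, germ_smul, TopCat.Presheaf.germ_res_apply, map_pow,
    TopCat.Presheaf.germ_res_apply] at h4
  exact (hu.pow n).smul_eq_zero.1 h4.symm

end Groth.FlatDescent.LocalFP
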